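import Groth.Agent.Lib.KSix19.BettiExact.Homology
import Groth.Agent.Lib.OX.PullbackTensor
import Groth.Agent.Lib.OX.PullbackFlat
import Mathlib.CategoryTheory.Adjunction.FullyFaithful

/-! # `H^i(P ⊗ M)` commutes with restriction to opens -/

set_option autoImplicit false
set_option maxHeartbeats 800000
set_option backward.isDefEq.respectTransparency false
universe u

open CategoryTheory CategoryTheory.Limits AlgebraicGeometry HomologicalComplex MonoidalCategory

attribute [local instance] HasDerivedCategory.standard

namespace GrothLib.KSix19.BettiExact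

open GrothLib.OX

variable {U X : Scheme.{u}} (j : U ⟶ X)

theorem pullTensorHom_natural₂ (A : X.Modules) {N N' : X.Modules} (b : N ⟶ N') :
    (Scheme.Modules.pullback j).map (((DCoh.tensorBi (X := X)).obj A).map b) ≫ pullTensorHom j A N' =
      pullTensorHom j A N ≫ ((DCoh.tensorBi (X := U)).obj ((Scheme.Modules.pullback j).obj A)).map
        ((Scheme.Modules.pullback j).map b) := by
  have h := pullTensorHom_natural j (𝟙 A) b
  simp only [CategoryTheory.Functor.map_id, id_tensorHom] at h
  exact h

theorem pullTensorHom_natural₁ {A A' : X.Modules} (a : A ⟶ A') (N : X.Modules) :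
    (Scheme.Modules.pullback j).map (((DCoh.tensorBi (X := X)).map a).app N) ≫ pullTensorHom j A' N =
      pullTensorHom j A N ≫ ((DCoh.tensorBi (X := U)).map ((Scheme.Modules.pullback j).map a)).app
        ((Scheme.Modules.pullback j).obj N) := by
  have h := pullTensorHom_natural j a (𝟙 N)
  simp only [CategoryTheory.Functor.map_id, tensorHom_id] at h
  exact h

/-- Termwise tensor product commutes with pullback. -/
noncomputable def pullCxTensorIso (P : CochainComplex X.Modules ℤ) :
    cxTensor P ⋙ pullCxF j ≅ Scheme.Modules.pullback j ⋙ cxTensor ((pullCxF j).obj P) :=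
  NatIso.ofComponents
    (fun M => HomologicalComplex.Hom.isoOfComponents (fun k => pullTensorIso j (P.X k) M)
      (fun k k' _ => (pullTensorHom_natural₁ j (P.d k k') M).symm))
    (fun g => HomologicalComplex.hom_ext _ _ fun k => pullTensorHom_natural₂ j (P.X k) g)

variable [IsOpenImmersion j]

/-- Pullback to an open is exact. -/
theorem preservesHomology_pullback : (Scheme.Modules.pullback j).PreservesHomology := by
  have := preservesFiniteLimits_pullback_of_flat j
  have : (Scheme.Modules.pullback j).IsLeftAdjoint :=
    (Scheme.Modules.pullbackPushforwardAdjunction j).isLeftAdjoint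
  have := PreservesColimits.preservesFiniteColimits (Scheme.Modules.pullback j)
  exact Functor.preservesHomologyOfExact (Scheme.Modules.pullback j)

/-- `H^i(P ⊗ -)` commutes with restriction. -/
noncomputable def pullCohTensorIso (P : CochainComplex X.Modules ℤ) (i : ℤ) :
    cohTensor P i ⋙ Scheme.Modules.pullback j ≅ Scheme.Modules.pullback j ⋙ cohTensor ((pullCxF j).obj P) i :=
  have := preservesHomology_pullback j
  NatIso.ofComponents
    (fun M => ((((cxTensor P).obj M).sc i).mapHomologyIso (Scheme.Modules.pullback j)).symm ≪≫
      (homologyFunctor U.Modules (ComplexShape.up ℤ) i).mapIso ((pullCxTensorIso j P).app M))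
    (fun {M N} g => by
      have h1 := ShortComplex.mapHomologyIso_hom_naturality
        ((shortComplexFunctor X.Modules (ComplexShape.up ℤ) i).map ((cxTensor P).map g)) (Scheme.Modules.pullback j)
      have h2 := (pullCxTensorIso j P).hom.naturality g
      change (Scheme.Modules.pullback j).map (ShortComplex.homologyMap
          ((shortComplexFunctor X.Modules (ComplexShape.up ℤ) i).map ((cxTensor P).map g))) ≫ _ ≫
          (homologyFunctor U.Modules (ComplexShape.up ℤ) i).map ((pullCxTensorIso j P).hom.app N) =
        (_ ≫ (homologyFunctor U.Modules (ComplexShape.up ℤ) i).map ((pullCxTensorIso j P).hom.app M)) ≫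
          (homologyFunctor U.Modules (ComplexShape.up ℤ) i).map
            ((cxTensor ((pullCxF j).obj P)).map ((Scheme.Modules.pullback j).map g))
      rw [Category.assoc, ← Functor.map_comp]
      erw [← h2]
      rw [Functor.map_comp, ← Category.assoc, ← Category.assoc]
      congr 1
      rw [Iso.symm_hom, Iso.symm_hom, Iso.comp_inv_eq, Category.assoc, Iso.eq_inv_comp]
      exact h1.symm)

theorem shortExact_stalk_of_pullback (y : U) {S : ShortComplex X.Modules}
    (h : (S.map (Scheme.Modules.pullback j)).ShortExact) : (S.map (stalk (j y))).ShortExact := by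
  let χ := (j.stalkMap y).hom
  have hb : Function.Bijective χ := ConcreteCategory.bijective_of_isIso (j.stalkMap y)
  let adj := ModuleCat.extendRestrictScalarsAdj χ
  have : (ModuleCat.restrictScalars.{u} χ).IsEquivalence :=
    (ModuleCat.restrictScalarsEquivalenceOfRingEquiv (RingEquiv.ofBijective χ hb)).isEquivalence_functor
  have := adj.isEquivalence_left_of_isEquivalence_right
  have h1 := (shortExact_iff _).1 h y
  have h2 : ((S.map (stalk (j y))).map (ModuleCat.extendScalars χ)).ShortExact :=
    ShortComplex.shortExact_of_iso (S.mapNatIso (pullStalkIso j y)) h1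
  have h3 := h2.map_of_exact (ModuleCat.restrictScalars.{u} χ)
  exact ShortComplex.shortExact_of_iso ((S.map (stalk (j y))).mapNatIso (asIso adj.unit)).symm h3

end GrothLib.KSix19.BettiExact
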