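import Groth.Agent.Lib.KSix19.BettiExact.Fibre
import Groth.Agent.Lib.KSix19.BettiExact.Pull
import Groth.Agent.Lib.OX.LTensorCx
import Groth.Agent.Lib.OX.LocalTensor
import Groth.Prelude.Def_DCoh4

/-! # Locally constant Betti number on a reduced scheme makes `H^p(- ⊗^L E)` exact -/

set_option autoImplicit false
set_option maxHeartbeats 1600000
set_option backward.isDefEq.respectTransparency false
universe u

open CategoryTheory CategoryTheory.Limits AlgebraicGeometry HomologicalComplex Pretriangulated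

attribute [local instance] HasDerivedCategory.standard

namespace GrothLib.KSix19.BettiExact

open GrothLib.OX

variable {X : Scheme.{u}}

theorem singleIso_natural (L : CochainComplex X.Modules ℤ) {M N : X.Modules} (g : M ⟶ N) :
    (cxTensor L).map g ≫ (singleIso L N).hom =
      (singleIso L M).hom ≫ ((DCoh.tensorCx (X := X)).obj L).map
        ((HomologicalComplex.single X.Modules (ComplexShape.up ℤ) 0).map g) := by
  refine HomologicalComplex.hom_ext _ _ fun n => ?_
  simp only [HomologicalComplex.comp_f]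
  change ((DCoh.tensorBi (X := X)).obj (L.X n)).map g ≫ (((DCoh.tensorBi (X := X)).obj (L.X n)).map _ ≫ _) =
    (((DCoh.tensorBi (X := X)).obj (L.X n)).map _ ≫ _) ≫ _
  erw [Category.assoc, HomologicalComplex.ι_mapBifunctorMap]
  simp only [HomologicalComplex.id_f, CategoryTheory.Functor.map_id, NatTrans.id_app, Category.id_comp]
  erw [← Functor.map_comp_assoc, ← Functor.map_comp_assoc]
  congr 2

/-- Tensoring a complex with a module, through the module placed in degree zero. -/
noncomputable def cxTensorIso (L : CochainComplex X.Modules ℤ) :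
    cxTensor L ≅ HomologicalComplex.single X.Modules (ComplexShape.up ℤ) 0 ⋙ (DCoh.tensorCx (X := X)).obj L :=
  NatIso.ofComponents (fun M => singleIso L M) (fun g => singleIso_natural L g)

/-- Quasi-isomorphic complexes have the same derived tensor product, on the K-flat side. -/
theorem nonempty_ltensor_iso {F F' : CochainComplex X.Modules ℤ} (q : F' ⟶ F) [QuasiIso q]
    [DCoh.HasLTensorCx F] [DCoh.HasLTensorCx F'] : Nonempty (DCoh.LTensorCx F' ≅ DCoh.LTensorCx F) := by
  let W := HomologicalComplex.quasiIso X.Modules (ComplexShape.up ℤ)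
  let α : DerivedCategory.Q ⋙ DCoh.LTensorCx F' ⟶ DCoh.tensorCxQ F :=
    (DCoh.tensorCxQ F').totalLeftDerivedCounit DerivedCategory.Q W ≫
      Functor.whiskerRight ((DCoh.tensorCx (X := X)).flip.map q) DerivedCategory.Q
  have hα : ∀ A : CochainComplex X.Modules ℤ, DCoh.IsKFlat A → IsIso (α.app A) := fun A hA => by
    have h1 := (cxResolvable_tensor F').isIso_app_of_isLeftDerivedFunctor (DCoh.LTensorCx F')
      ((DCoh.tensorCxQ F').totalLeftDerivedCounit DerivedCategory.Q W) hA
    have : QuasiIso (((DCoh.tensorCx (X := X)).obj A).map q) := quasiIso_tensor_map_of_isKFlat q A hA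
    have h2 : IsIso (DerivedCategory.Q.map (((DCoh.tensorCx (X := X)).obj A).map q)) := inferInstance
    exact @IsIso.comp_isIso _ _ _ _ _ _ _ h1 h2
  have := (cxResolvable_tensor F).isLeftDerivedFunctor (DCoh.LTensorCx F') α hα
  exact ⟨Functor.leftDerivedNatIso (DCoh.LTensorCx F') (DCoh.LTensorCx F) α
    ((DCoh.tensorCxQ F).totalLeftDerivedCounit DerivedCategory.Q W) W (Iso.refl _)⟩

/-- `M ↦ H^p(M ⊗^L F)` is `M ↦ H^p(F' ⊗ M)` for a K-flat model `F'`. -/
theorem nonempty_functor_iso (F : CochainComplex X.Modules ℤ) [DCoh.HasLTensorCx F]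
    {F' : CochainComplex X.Modules ℤ} (hF' : DCoh.IsKFlat F') (q : F' ⟶ F) [QuasiIso q] (p : ℤ) :
    Nonempty (DerivedCategory.singleFunctor X.Modules 0 ⋙ DCoh.LTensorCx F ⋙
      DerivedCategory.homologyFunctor X.Modules p ≅ cohTensor F' p) := by
  have := hasLTensorCx F'
  obtain ⟨e⟩ := nonempty_ltensor_iso q
  let W := HomologicalComplex.quasiIso X.Modules (ComplexShape.up ℤ)
  have : IsIso ((DCoh.tensorCxQ F').totalLeftDerivedCounit DerivedCategory.Q W) := by
    have := fun K => isIso_counit_of_isKFlat F' hF' K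
    exact NatIso.isIso_of_isIso_app _
  let c : DerivedCategory.Q ⋙ DCoh.LTensorCx F' ≅ DCoh.tensorCxQ F' :=
    asIso ((DCoh.tensorCxQ F').totalLeftDerivedCounit DerivedCategory.Q W)
  let S := HomologicalComplex.single X.Modules (ComplexShape.up ℤ) 0
  let H := DerivedCategory.homologyFunctor X.Modules p
  exact ⟨Functor.isoWhiskerLeft (DerivedCategory.singleFunctor X.Modules 0)
      (Functor.isoWhiskerRight e.symm H) ≪≫
    Functor.isoWhiskerLeft S (Functor.isoWhiskerRight c H) ≪≫
    Functor.isoWhiskerLeft S (Functor.isoWhiskerLeft ((DCoh.tensorCx (X := X)).flip.obj F')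
      (DerivedCategory.homologyFunctorFactors X.Modules p)) ≪≫
    Functor.isoWhiskerRight (Functor.isoWhiskerLeft S (tensorFlipIso F') ≪≫ (cxTensorIso F').symm)
      (HomologicalComplex.homologyFunctor X.Modules (ComplexShape.up ℤ) p)⟩

/-- A good map between K-flat complexes identifies `H^i(- ⊗ M)` above the threshold. -/
theorem isIso_cxTensorMap {P F : CochainComplex X.Modules ℤ} (φ : P ⟶ F) (hP : DCoh.IsKFlat P)
    (hF : DCoh.IsKFlat F) {m : ℤ} (hφ : DerCat.Good (DerivedCategory.Q.map φ) m) (i : ℤ) (hi : m < i) :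
    IsIso (Functor.whiskerRight (cxTensorMap φ)
      (HomologicalComplex.homologyFunctor X.Modules (ComplexShape.up ℤ) i)) := by
  have : ∀ M, IsIso ((Functor.whiskerRight (cxTensorMap φ)
      (HomologicalComplex.homologyFunctor X.Modules (ComplexShape.up ℤ) i)).app M) := fun M => by
    let F₀ := (DCoh.tensorBi (X := X)).flip.obj M
    let ψ := (tensorModCx M).map φ
    have hC : (DerivedCategory.Q.obj (CochainComplex.mappingCone φ)).IsLE (m - 1) :=
      (DerCat.good_iff_isLE (DerivedCategory.mappingCone_triangle_distinguished φ) m).1 hφ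
    have hz : ∀ k, m - 1 < k → IsZero ((CochainComplex.mappingCone φ).homology k) := fun k hk =>
      (DerivedCategory.isZero_of_isLE _ (m - 1) k hk).of_iso (hdIso _ k).symm
    have hψ : DerCat.Good (DerivedCategory.Q.map ψ) m := by
      refine (DerCat.good_iff_isLE (DerivedCategory.mappingCone_triangle_distinguished ψ) m).2 ?_
      refine (DerivedCategory.isLE_iff _ _).2 fun k hk => ?_
      exact ((isZero_homology_tensorModCx (isKFlat_mappingCone φ hP hF) hz M k hk).of_iso
        ((HomologicalComplex.homologyFunctor X.Modules (ComplexShape.up ℤ) k).mapIso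
          (CochainComplex.mappingCone.mapHomologicalComplexIso φ F₀).symm)).of_iso (hdIso _ k)
    exact ((MorphismProperty.isomorphisms _).arrow_mk_iso_iff
      (Arrow.isoMk ((DerivedCategory.homologyFunctorFactors X.Modules i).app _)
        ((DerivedCategory.homologyFunctorFactors X.Modules i).app _)
        ((DerivedCategory.homologyFunctorFactors X.Modules i).hom.naturality ψ).symm)).1 (hψ.1 i hi)
  exact NatIso.isIso_of_isIso_app _

theorem flat_cokernel_restrict {U : Scheme.{u}} (j : U ⟶ X) [IsOpenImmersion j] {A B : X.Modules} (d : A ⟶ B)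
    (h : FlatMod.IsFlat ((Scheme.Modules.restrictFunctor j).obj (cokernel d))) :
    FlatMod.IsFlat (cokernel ((Scheme.Modules.restrictFunctor j).map d)) :=
  flat_of_iso (PreservesCokernel.iso (Scheme.Modules.restrictFunctor j) d) h

/-- Restricting an approximation further. -/
theorem restrict_approx {U : Scheme.{u}} (j : U ⟶ X) [IsOpenImmersion j] {F : CochainComplex X.Modules ℤ}
    {P : CochainComplex U.Modules ℤ} {φ : P ⟶ (resCx j).obj F} {m : ℤ}
    (hφ : DerCat.Good (DerivedCategory.Q.map φ) m) {W : Scheme.{u}} (l : W ⟶ U) [IsOpenImmersion l] :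
    DerCat.Good (DerivedCategory.Q.map ((resCx l).map φ ≫ (resCxCompIso l j).inv.app F)) m := by
  rw [Functor.map_comp]
  refine DerCat.Good.comp ?_ (DerCat.good_of_isIso _ _)
  have h := hφ.map (Scheme.Modules.restrictFunctor l)
  exact DerCat.good_congr ((resDFac l).app P) ((resDFac l).app _)
    ((resDFac l).hom.naturality φ) h

theorem flat_restrict_le {W W' : X.Opens} (hle : W ≤ W') (Q : X.Modules)
    (h : FlatMod.IsFlat ((Scheme.Modules.restrictFunctor W'.ι).obj Q)) :
    FlatMod.IsFlat ((Scheme.Modules.restrictFunctor W.ι).obj Q) := by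
  let a := X.homOfLE hle
  have : IsOpenImmersion (a ≫ W'.ι) := inferInstance
  exact flat_of_iso (((Scheme.Modules.restrictFunctorComp a W'.ι).symm ≪≫
    Scheme.Modules.restrictFunctorCongr (X.homOfLE_ι hle)).app Q) (flat_restrict a h)

/-- Locally constant Betti number gives, locally, an approximation with flat cokernels. -/
theorem exists_flat_approx [IsReduced X] [∀ x : X, DCoh.HasLpull (X.fromSpecResidueField x)] {E : DCoh.D X} {i : ℤ}
    (hE : DCoh.IsPseudoCoherentD (i - 1) E) (hc : IsLocallyConstant fun x : X => PerfD.betti E x i)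
    {F : CochainComplex X.Modules ℤ} (hF : DCoh.IsKFlat F) (e : DerivedCategory.Q.obj F ≅ E) (x : X) :
    ∃ (W : Scheme.{u}) (j : W ⟶ X) (_ : IsOpenImmersion j) (P : CochainComplex W.Modules ℤ)
      (φ : P ⟶ (resCx j).obj F), x ∈ Set.range j ∧ DCoh.IsStrictlyPerfect P ∧
        DerCat.Good (DerivedCategory.Q.map φ) (i - 1) ∧ FlatMod.IsFlat (cokernel (P.d (i - 1) i)) ∧
        FlatMod.IsFlat (cokernel (P.d i (i + 1))) := by
  obtain ⟨U₁, j₁, hj₁, ⟨y₁, hy₁⟩, hA⟩ := isPseudoCoherentD_iff.1 hE x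
  obtain ⟨P₁, α₁, hP₁, hα₁⟩ := hA.of_iso ((resD j₁).mapIso e.symm ≪≫ (resDFac j₁).app F)
  obtain ⟨A, n, hyA, ⟨a⟩⟩ := hP₁.2 i y₁
  obtain ⟨B, n', hyB, ⟨b⟩⟩ := hP₁.2 (i + 1) y₁
  obtain ⟨V, β, hyV, hβ⟩ := exists_resD_chain hP₁ α₁ y₁
  let W₀ := A ⊓ B ⊓ V
  obtain ⟨a'⟩ := DCoh.exists_free_restrict_le (inf_le_left.trans inf_le_left : W₀ ≤ A) a
  obtain ⟨b'⟩ := DCoh.exists_free_restrict_le (inf_le_left.trans inf_le_right : W₀ ≤ B) b
  let k : (W₀ : Scheme.{u}) ⟶ (V : Scheme.{u}) := U₁.homOfLE inf_le_right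
  have hk : k ≫ V.ι = W₀.ι := U₁.homOfLE_ι _
  have hβ' : DerCat.Good (DerivedCategory.Q.map (β ≫ (resCxCompIso V.ι j₁).inv.app F)) (i - 1) := by
    have h := hα₁.map (Scheme.Modules.restrictFunctor V.ι)
    rw [Functor.map_comp]
    refine DerCat.Good.comp ?_ (DerCat.good_of_isIso _ _)
    refine DerCat.good_congr ((resDFac V.ι).app P₁) ((resDFac V.ι).app _) ?_ h
    change (resD V.ι).map α₁ ≫ _ = _
    rw [hβ]
    simp
  let jV := V.ι ≫ j₁
  let j := k ≫ jV
  let P := (resCx k).obj ((resCx V.ι).obj P₁)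
  let φ : P ⟶ (resCx j).obj F := (resCx k).map (β ≫ (resCxCompIso V.ι j₁).inv.app F) ≫ (resCxCompIso k jV).inv.app F
  have hφ : DerCat.Good (DerivedCategory.Q.map φ) (i - 1) := restrict_approx jV hβ' k
  have hP : DCoh.IsStrictlyPerfect P := strictlyPerfect_resCx k (strictlyPerfect_resCx V.ι hP₁)
  let cI := (Scheme.Modules.restrictFunctorComp k V.ι).symm ≪≫ Scheme.Modules.restrictFunctorCongr hk
  let a'' : P.X i ≅ FlatMod.freeMod (W₀ : Scheme.{u}) n := cI.app (P₁.X i) ≪≫ a'
  let b'' : P.X (i + 1) ≅ FlatMod.freeMod (W₀ : Scheme.{u}) n' := cI.app (P₁.X (i + 1)) ≪≫ b'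
  let y : (W₀ : Scheme.{u}) := ⟨y₁, ⟨⟨hyA, hyB⟩, hyV⟩⟩
  have hjy : j y = x := by
    change j₁ (V.ι (k y)) = x
    rw [← Scheme.Hom.comp_apply k V.ι, hk]
    exact hy₁
  have hxj : x ∈ Set.range j := ⟨y, hjy⟩
  let t₀ := pt x
  let g₀ := ptLift j x hxj
  have hg₀ : g₀ t₀ = y := j.isOpenEmbedding.injective ((ptLift_apply j x hxj t₀).trans hjy.symm)
  have : Epi (a''.inv ≫ cokernel.π (P.d (i - 1) i)) :=
    @epi_comp _ _ _ _ _ a''.inv inferInstance (cokernel.π (P.d (i - 1) i)) coequalizer.π_epi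
  have : Epi (b''.inv ≫ cokernel.π (P.d i (i + 1))) :=
    @epi_comp _ _ _ _ _ b''.inv inferInstance (cokernel.π (P.d i (i + 1))) coequalizer.π_epi
  have hsur := stalkMap_ptLift_surjective j x hxj t₀
  obtain ⟨O₁, hO₁, hO₁'⟩ := exists_open_fibDim_le (a''.inv ≫ cokernel.π (P.d (i - 1) i)) g₀ t₀
    (isField_residue x t₀) hsur
  obtain ⟨O₂, hO₂, hO₂'⟩ := exists_open_fibDim_le (b''.inv ≫ cokernel.π (P.d i (i + 1))) g₀ t₀
    (isField_residue x t₀) hsur
  obtain ⟨N, hNo, hxN, hN⟩ := (IsLocallyConstant.iff_exists_open _).1 hc x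
  let O : (W₀ : Scheme.{u}).Opens := (j ⁻¹ᵁ ⟨N, hNo⟩) ⊓ O₁ ⊓ O₂
  have hgO : g₀ t₀ ∈ O := ⟨⟨show j (g₀ t₀) ∈ N by rw [hg₀, hjy]; exact hxN, hO₁⟩, hO₂⟩
  obtain ⟨α, hα⟩ : ∃ α : DerivedCategory.Q.obj P ⟶ DerivedCategory.Q.obj ((resCx j).obj F),
      α = DerivedCategory.Q.map φ := ⟨_, rfl⟩
  have hpts : ∀ v ∈ O, ∃ (T : Scheme.{u}) (g : T ⟶ (W₀ : Scheme.{u})) (t : T), Subsingleton T ∧
      IsField (T.presheaf.stalk t) ∧ g t = v ∧
      fibDim g t (cokernel (P.d (i - 1) i)) = fibDim g₀ t₀ (cokernel (P.d (i - 1) i)) ∧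
      fibDim g t (cokernel (P.d i (i + 1))) = fibDim g₀ t₀ (cokernel (P.d i (i + 1))) := fun v hv => by
    let g := ptLift j (j v) ⟨v, rfl⟩
    let t := pt (j v)
    have hgt : g t = v := j.isOpenEmbedding.injective (ptLift_apply j (j v) ⟨v, rfl⟩ t)
    have hK := isField_residue (j v) t
    refine ⟨_, g, t, subsingleton_residue _, hK, hgt, ?_⟩
    have l₁ := hO₁' _ g t hK (by rw [hgt]; exact hv.1.2)
    have l₂ := hO₂' _ g t hK (by rw [hgt]; exact hv.2)
    have e₁ := betti_formula g t hK P i a'' b''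
    have e₀ := betti_formula g₀ t₀ (isField_residue x t₀) P i a'' b''
    have hb := betti_eq E hF e j hP α (hα ▸ hφ) (j v) ⟨v, rfl⟩ t (by omega : i - 1 < i)
    have hb₀ := betti_eq E hF e j hP α (hα ▸ hφ) x hxj t₀ (by omega : i - 1 < i)
    have hbb : PerfD.betti E (j v) i = PerfD.betti E x i := hN (j v) hv.1.1
    have k₁ := (congrArg (· + n') hb).trans e₁
    have k₀ := (congrArg (· + n') hb₀).trans e₀
    omega
  have : IsReduced (W₀ : Scheme.{u}) := isReduced_of_isOpenImmersion j
  obtain ⟨W₁, hy₁W, -, hf₁⟩ := exists_flat_of_fibDim_const (a''.inv ≫ cokernel.π (P.d (i - 1) i)) g₀ t₀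
    (isField_residue x t₀) hsur O hgO fun v hv => by
      obtain ⟨T, g, t, h1, h2, h3, h4, -⟩ := hpts v hv
      exact ⟨T, g, t, h1, h2, h3, h4⟩
  obtain ⟨W₂, hy₂W, -, hf₂⟩ := exists_flat_of_fibDim_const (b''.inv ≫ cokernel.π (P.d i (i + 1))) g₀ t₀
    (isField_residue x t₀) hsur O hgO fun v hv => by
      obtain ⟨T, g, t, h1, h2, h3, -, h4⟩ := hpts v hv
      exact ⟨T, g, t, h1, h2, h3, h4⟩
  let W := W₁ ⊓ W₂
  exact ⟨W, W.ι ≫ j, inferInstance, (resCx W.ι).obj P, (resCx W.ι).map φ ≫ (resCxCompIso W.ι j).inv.app F,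
    ⟨⟨g₀ t₀, hy₁W, hy₂W⟩, ptLift_apply j x hxj t₀⟩, strictlyPerfect_resCx _ hP, restrict_approx j hφ W.ι,
    flat_cokernel_restrict _ _ (flat_restrict_le inf_le_left _ hf₁),
    flat_cokernel_restrict _ _ (flat_restrict_le inf_le_right _ hf₂)⟩

/-- **Locally constant Betti number over a reduced scheme makes the cohomology functor exact.** -/
theorem exact_of_betti [IsReduced X] [∀ x : X, DCoh.HasLpull (X.fromSpecResidueField x)]
    (F : CochainComplex X.Modules ℤ) [DCoh.HasLTensorCx F] (p : ℤ)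
    (hE : DCoh.IsPseudoCoherentD (p - 1) (DCoh.toD X F))
    (hc : IsLocallyConstant fun x : X => PerfD.betti (DCoh.toD X F) x p) :
    PreservesFiniteLimits (DerivedCategory.singleFunctor X.Modules 0 ⋙ DCoh.LTensorCx F ⋙
        DerivedCategory.homologyFunctor X.Modules p) ∧
      PreservesFiniteColimits (DerivedCategory.singleFunctor X.Modules 0 ⋙ DCoh.LTensorCx F ⋙
        DerivedCategory.homologyFunctor X.Modules p) := by
  obtain ⟨F', q, hF', -, hq, -⟩ := exists_kflat_resolution F
  obtain ⟨e⟩ := nonempty_functor_iso F hF' q p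
  have key : ∀ S : ShortComplex X.Modules, S.ShortExact → (S.map (cohTensor F' p)).ShortExact := fun S hS => by
    refine (shortExact_iff _).2 fun x => ?_
    obtain ⟨W, j, hj, P, φ, ⟨w, rfl⟩, hP, hφ, h₀, h₁⟩ := exists_flat_approx hE hc hF'
      (show DerivedCategory.Q.obj F' ≅ DCoh.toD X F from asIso (DerivedCategory.Q.map q)) x
    refine shortExact_stalk_of_pullback j w ?_
    have := preservesHomology_pullback j
    have : (Scheme.Modules.pullback j).Additive := additive_pullback j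
    have := preservesFiniteLimits_pullback_of_flat j
    have : (Scheme.Modules.pullback j).IsLeftAdjoint :=
      (Scheme.Modules.pullbackPushforwardAdjunction j).isLeftAdjoint
    have := PreservesColimits.preservesFiniteColimits (Scheme.Modules.pullback j)
    have hPK := isKFlat_of_strictlyPerfect hP
    let φ' : P ⟶ (pullCxF j).obj F' := φ ≫ (resPullCxIso j).hom.app F'
    have hφ' : DerCat.Good (DerivedCategory.Q.map φ') (p - 1) := by
      rw [Functor.map_comp]
      exact hφ.comp (DerCat.good_of_isIso _ _)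
    have := isIso_cxTensorMap φ' hPK (isKFlat_pullback j hF') hφ' p (by omega)
    let i₁ : cohTensor P p ≅ cohTensor ((pullCxF j).obj F') p :=
      @asIso _ _ _ _ (Functor.whiskerRight (cxTensorMap φ')
        (HomologicalComplex.homologyFunctor W.Modules (ComplexShape.up ℤ) p)) this
    have hP' : ∀ k, FlatMod.IsFlat (P.X k) := fun k => flat_of_isFinLocFree (hP.2 k)
    have hS' : (S.map (Scheme.Modules.pullback j)).ShortExact := hS.map_of_exact (Scheme.Modules.pullback j)
    have : (cohTensor ((pullCxF j).obj F') p).PreservesZeroMorphisms := inferInstance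
    refine ShortComplex.shortExact_of_iso (S.mapNatIso (pullCohTensorIso j F' p)).symm ?_
    exact ShortComplex.shortExact_of_iso ((S.map (Scheme.Modules.pullback j)).mapNatIso i₁)
      (shortExact_cohTensor hP' p h₀ h₁ _ hS')
  obtain ⟨h1, h2⟩ := ((cohTensor F' p).exact_tfae.out 0 3).1 key
  exact ⟨preservesFiniteLimits_of_natIso e.symm, preservesFiniteColimits_of_natIso e.symm⟩

end GrothLib.KSix19.BettiExact
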