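import Groth.Agent.Lib.OX.ProjQCohSigma
import Groth.Agent.Lib.OX.RpushQCoh
import Groth.Agent.Lib.OX.LTensorCx
import Groth.Agent.Lib.OX.HomTri
import Groth.Agent.Lib.KSix19.BettiExact.Main
import Groth.Prelude.Def_QCohCat

/-! # The projection formula, naturally in the quasi-coherent variable -/

set_option autoImplicit false
set_option maxHeartbeats 1600000
set_option backward.isDefEq.respectTransparency false
universe v u

open CategoryTheory CategoryTheory.Limits AlgebraicGeometry HomologicalComplex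
open DerivedCategory (Qh)

attribute [local instance] HasDerivedCategory.standard

namespace GrothLib.KSix19.BettiExact

open GrothLib.OX

variable {X Y : Scheme.{u}}

/-- K-flat complexes with quasi-coherent cohomology. -/
def kfq (Y : Scheme.{u}) : ObjectProperty (CochainComplex Y.Modules ℤ) :=
  fun P => DCoh.IsKFlat P ∧ DCoh.IsQCohD (DerivedCategory.Q.obj P)

theorem isQCohD_of_iso' {K L : DCoh.D Y} (e : K ≅ L) (h : DCoh.IsQCohD K) : DCoh.IsQCohD L := fun i =>
  isQCoh_of_iso ((DerivedCategory.homologyFunctor Y.Modules i).mapIso e) (h i)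

/-- A natural isomorphism on K-flat complexes gives one on the derived category. -/
theorem nonempty_iso_of_kflat {C : Type*} [Category C] (H₁ H₂ : DCoh.D Y ⥤ C)
    (τ : (kfq Y).ι ⋙ DerivedCategory.Q ⋙ H₁ ≅ (kfq Y).ι ⋙ DerivedCategory.Q ⋙ H₂) :
    Nonempty ((DCoh.IsQCohD (X := Y)).ι ⋙ H₁ ≅ (DCoh.IsQCohD (X := Y)).ι ⋙ H₂) := by
  have hrep : ∀ K : (DCoh.IsQCohD (X := Y)).FullSubcategory,
      ∃ P : (kfq Y).FullSubcategory, Nonempty (DerivedCategory.Q.obj P.obj ≅ K.obj) := fun K => by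
    obtain ⟨P, hP, ⟨a⟩⟩ := exists_kflat_rep K.obj
    exact ⟨⟨P, hP, isQCohD_of_iso' a.symm K.property⟩, ⟨a⟩⟩
  choose P hP using hrep
  let a := fun K => (hP K).some
  refine ⟨NatIso.ofComponents (fun K => H₁.mapIso (a K).symm ≪≫ τ.app (P K) ≪≫ H₂.mapIso (a K)) ?_⟩
  intro K L f
  obtain ⟨Z, s, hs, t, ht⟩ := DerivedCategory.right_fac ((a K).hom ≫ f.hom ≫ (a L).inv)
  have : QuasiIso s := (DerivedCategory.isIso_Q_map_iff_quasiIso _ s).1 hs
  obtain ⟨Z', r, hZ', -, hr, -⟩ := exists_kflat_resolution Z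
  let z : (kfq Y).FullSubcategory := ⟨Z', hZ', isQCohD_of_iso'
    (asIso (DerivedCategory.Q.map (r ≫ s))).symm (P K).property.2⟩
  let σ : z ⟶ P K := ObjectProperty.homMk (r ≫ s)
  let θ : z ⟶ P L := ObjectProperty.homMk (r ≫ t)
  have hfac : (a K).hom ≫ f.hom ≫ (a L).inv =
      inv (DerivedCategory.Q.map (r ≫ s)) ≫ DerivedCategory.Q.map (r ≫ t) := by
    rw [ht, IsIso.eq_inv_comp, Functor.map_comp, Functor.map_comp, Category.assoc, IsIso.hom_inv_id_assoc]
  have key : H₁.map ((a K).hom ≫ f.hom ≫ (a L).inv) ≫ τ.hom.app (P L) =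
      τ.hom.app (P K) ≫ H₂.map ((a K).hom ≫ f.hom ≫ (a L).inv) := by
    have n₁ : H₁.map (DerivedCategory.Q.map (r ≫ s)) ≫ τ.hom.app (P K) =
        τ.hom.app z ≫ H₂.map (DerivedCategory.Q.map (r ≫ s)) := τ.hom.naturality σ
    have n₂ : H₁.map (DerivedCategory.Q.map (r ≫ t)) ≫ τ.hom.app (P L) =
        τ.hom.app z ≫ H₂.map (DerivedCategory.Q.map (r ≫ t)) := τ.hom.naturality θ
    have hh : DerivedCategory.Q.map (r ≫ s) ≫ ((a K).hom ≫ f.hom ≫ (a L).inv) = DerivedCategory.Q.map (r ≫ t) := by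
      rw [hfac, IsIso.hom_inv_id_assoc]
    rw [← cancel_epi (H₁.map (DerivedCategory.Q.map (r ≫ s))), ← Functor.map_comp_assoc, hh, n₂, reassoc_of% n₁,
      ← Functor.map_comp, hh]
  change H₁.map f.hom ≫ H₁.map (a L).inv ≫ τ.hom.app (P L) ≫ H₂.map (a L).hom =
    (H₁.map (a K).inv ≫ τ.hom.app (P K) ≫ H₂.map (a K).hom) ≫ H₂.map f.hom
  have e1 : H₁.map f.hom ≫ H₁.map (a L).inv = H₁.map (a K).inv ≫ H₁.map ((a K).hom ≫ f.hom ≫ (a L).inv) := by
    rw [← Functor.map_comp, ← Functor.map_comp, Iso.inv_hom_id_assoc]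
  rw [reassoc_of% e1, reassoc_of% key, Category.assoc, Category.assoc, ← Functor.map_comp, ← Functor.map_comp,
    Category.assoc, Category.assoc, Iso.inv_hom_id, Category.comp_id]

/-- The derived tensor product is the tensor product on K-flat complexes. -/
theorem nonempty_ltensor_counit (E : CochainComplex Y.Modules ℤ) [DCoh.HasLTensorCx E] :
    Nonempty ((kfq Y).ι ⋙ DerivedCategory.Q ⋙ DCoh.LTensorCx E ≅ (kfq Y).ι ⋙ DCoh.tensorCxQ E) :=
  ⟨NatIso.ofComponents (fun P =>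
      have := (cxResolvable_tensor E).isIso_app_of_isLeftDerivedFunctor (DCoh.LTensorCx E)
        ((DCoh.tensorCxQ E).totalLeftDerivedCounit DerivedCategory.Q
          (HomologicalComplex.quasiIso Y.Modules (ComplexShape.up ℤ))) P.property.1
      asIso (((DCoh.tensorCxQ E).totalLeftDerivedCounit DerivedCategory.Q
          (HomologicalComplex.quasiIso Y.Modules (ComplexShape.up ℤ))).app P.obj))
      (fun g => ((DCoh.tensorCxQ E).totalLeftDerivedCounit DerivedCategory.Q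
          (HomologicalComplex.quasiIso Y.Modules (ComplexShape.up ℤ))).naturality g.hom)⟩

/-- The derived tensor product is the tensor product on pullbacks of K-flat complexes. -/
theorem nonempty_ltensor_pull_counit (f : X ⟶ Y) (E : CochainComplex X.Modules ℤ) [DCoh.HasLTensorCx E] :
    Nonempty ((kfq Y).ι ⋙ pullCxF f ⋙ DerivedCategory.Q ⋙ DCoh.LTensorCx E ≅
      (kfq Y).ι ⋙ pullCxF f ⋙ DCoh.tensorCxQ E) :=
  ⟨NatIso.ofComponents (fun P =>
      have := (cxResolvable_tensor E).isIso_app_of_isLeftDerivedFunctor (DCoh.LTensorCx E)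
        ((DCoh.tensorCxQ E).totalLeftDerivedCounit DerivedCategory.Q
          (HomologicalComplex.quasiIso X.Modules (ComplexShape.up ℤ))) (isKFlat_pullback f P.property.1)
      asIso (((DCoh.tensorCxQ E).totalLeftDerivedCounit DerivedCategory.Q
          (HomologicalComplex.quasiIso X.Modules (ComplexShape.up ℤ))).app ((pullCxF f).obj P.obj)))
      (fun g => ((DCoh.tensorCxQ E).totalLeftDerivedCounit DerivedCategory.Q
          (HomologicalComplex.quasiIso X.Modules (ComplexShape.up ℤ))).naturality ((pullCxF f).map g.hom))⟩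

/-- The derived pullback is the pullback on K-flat complexes, on the homotopy category. -/
theorem nonempty_lpull_counit (f : X ⟶ Y) [DCoh.HasLpull f] :
    Nonempty ((kfq Y).ι ⋙ HomotopyCategory.quotient _ _ ⋙ Qh ⋙ DCoh.Lpull f ≅
      (kfq Y).ι ⋙ HomotopyCategory.quotient _ _ ⋙
        ((Scheme.Modules.pullback f).mapHomotopyCategory (ComplexShape.up ℤ) ⋙ Qh)) :=
  ⟨NatIso.ofComponents (fun P =>
      have := (leftResolvable_of_acyclic (Scheme.Modules.pullback f)
          fun _ hC hK => acyclic_pullback f hC hK).isIso_app_of_isLeftDerivedFunctor (DCoh.Lpull f)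
        (((Scheme.Modules.pullback f).mapHomotopyCategory (ComplexShape.up ℤ) ⋙ Qh).totalLeftDerivedCounit Qh
          (HomotopyCategory.quasiIso Y.Modules (ComplexShape.up ℤ)))
        (Q := (HomotopyCategory.quotient _ _).obj P.obj) P.property.1
      asIso ((((Scheme.Modules.pullback f).mapHomotopyCategory (ComplexShape.up ℤ) ⋙ Qh).totalLeftDerivedCounit Qh
          (HomotopyCategory.quasiIso Y.Modules (ComplexShape.up ℤ))).app ((HomotopyCategory.quotient _ _).obj P.obj)))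
      (fun g => (((Scheme.Modules.pullback f).mapHomotopyCategory (ComplexShape.up ℤ) ⋙ Qh).totalLeftDerivedCounit Qh
          (HomotopyCategory.quasiIso Y.Modules (ComplexShape.up ℤ))).naturality
        ((HomotopyCategory.quotient _ _).map g.hom))⟩

/-- The derived pullback is the pullback on K-flat complexes. -/
theorem nonempty_lpull_kflat (f : X ⟶ Y) [DCoh.HasLpull f] :
    Nonempty ((kfq Y).ι ⋙ DerivedCategory.Q ⋙ DCoh.Lpull f ≅ (kfq Y).ι ⋙ pullCxF f ⋙ DerivedCategory.Q) := by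
  obtain ⟨c₄⟩ := nonempty_lpull_counit f
  exact ⟨Functor.isoWhiskerLeft (kfq Y).ι
      (Functor.isoWhiskerRight (DerivedCategory.quotientCompQhIso Y.Modules).symm (DCoh.Lpull f)) ≪≫ c₄ ≪≫
    Functor.isoWhiskerLeft (kfq Y).ι
      (Functor.isoWhiskerRight ((Scheme.Modules.pullback f).mapHomotopyCategoryFactors (ComplexShape.up ℤ)) Qh) ≪≫
    Functor.isoWhiskerLeft ((kfq Y).ι ⋙ pullCxF f) (DerivedCategory.quotientCompQhIso X.Modules)⟩

variable (f : X ⟶ Y) [QuasiCompact f] [QuasiSeparated f]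

/-- The projection map, natural on K-flat complexes with quasi-coherent cohomology. -/
theorem nonempty_projD_iso (A : CochainComplex X.Modules ℤ) (hA : InjK A)
    (hAq : DCoh.IsQCohD (DerivedCategory.Q.obj A)) :
    Nonempty ((kfq Y).ι ⋙ (DCoh.tensorCx (X := Y)).flip.obj ((pushCxF f).obj A) ⋙
        HomotopyCategory.quotient _ _ ⋙ Qh ≅
      (kfq Y).ι ⋙ pullCxF f ⋙ (DCoh.tensorCx (X := X)).flip.obj A ⋙ HomotopyCategory.quotient _ _ ⋙ Qh ⋙
        SiteDer.Rres (rmor f)) :=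
  ⟨NatIso.ofComponents (fun P =>
      have := isIso_projD_of_isQCohD f A hA hAq P.obj P.property.1 P.property.2
      asIso (projD f P.obj A))
      (fun g => projD_natural f g.hom A)⟩

/-- The projection formula, natural on K-flat complexes with quasi-coherent cohomology. -/
theorem nonempty_proj_iso [DCoh.HasLpull f] [DCoh.HasRpush f] (A : CochainComplex X.Modules ℤ) (hA : InjK A)
    (hAq : DCoh.IsQCohD (DerivedCategory.Q.obj A)) [DCoh.HasLTensorCx A] [DCoh.HasLTensorCx ((pushCxF f).obj A)] :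
    Nonempty ((kfq Y).ι ⋙ DerivedCategory.Q ⋙ DCoh.LTensorCx ((pushCxF f).obj A) ≅
      (kfq Y).ι ⋙ DerivedCategory.Q ⋙ DCoh.Lpull f ⋙ DCoh.LTensorCx A ⋙ DCoh.Rpush f) := by
  obtain ⟨c₁⟩ := nonempty_ltensor_counit (Y := Y) ((pushCxF f).obj A)
  obtain ⟨c₂⟩ := nonempty_projD_iso f A hA hAq
  obtain ⟨c₃⟩ := nonempty_ltensor_pull_counit f A
  obtain ⟨c₅⟩ := nonempty_lpull_kflat f
  have d₁ : (kfq Y).ι ⋙ DCoh.tensorCxQ ((pushCxF f).obj A) ≅
      (kfq Y).ι ⋙ pullCxF f ⋙ (DCoh.tensorCx (X := X)).flip.obj A ⋙ HomotopyCategory.quotient _ _ ⋙ Qh ⋙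
        SiteDer.Rres (rmor f) :=
    Functor.isoWhiskerLeft ((kfq Y).ι ⋙ (DCoh.tensorCx (X := Y)).flip.obj ((pushCxF f).obj A))
      (DerivedCategory.quotientCompQhIso Y.Modules).symm ≪≫ c₂
  have d₂ : (kfq Y).ι ⋙ pullCxF f ⋙ (DCoh.tensorCx (X := X)).flip.obj A ⋙ HomotopyCategory.quotient _ _ ⋙ Qh ⋙
        SiteDer.Rres (rmor f) ≅ (kfq Y).ι ⋙ pullCxF f ⋙ DCoh.tensorCxQ A ⋙ SiteDer.Rres (rmor f) :=
    Functor.isoWhiskerLeft ((kfq Y).ι ⋙ pullCxF f ⋙ (DCoh.tensorCx (X := X)).flip.obj A)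
      (Functor.isoWhiskerRight (DerivedCategory.quotientCompQhIso X.Modules) (SiteDer.Rres (rmor f)))
  have d₃ : (kfq Y).ι ⋙ pullCxF f ⋙ DCoh.tensorCxQ A ⋙ SiteDer.Rres (rmor f) ≅
      (kfq Y).ι ⋙ DerivedCategory.Q ⋙ DCoh.Lpull f ⋙ DCoh.LTensorCx A ⋙ SiteDer.Rres (rmor f) :=
    Functor.isoWhiskerRight c₃.symm (SiteDer.Rres (rmor f)) ≪≫
      Functor.isoWhiskerRight c₅.symm (DCoh.LTensorCx A ⋙ SiteDer.Rres (rmor f))
  exact ⟨c₁ ≪≫ d₁ ≪≫ d₂ ≪≫ d₃ ≪≫
    Functor.isoWhiskerLeft ((kfq Y).ι ⋙ DerivedCategory.Q ⋙ DCoh.Lpull f ⋙ DCoh.LTensorCx A) (rpushIsoRres f).symm⟩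

/-- `M ↦ H^i(Rf_*(Lf^* M ⊗^L F))` on quasi-coherent modules is `M ↦ H^i(M ⊗^L B)` for a representative `B` of
`Rf_* F`. -/
theorem exists_proj_model [DCoh.HasLpull f] [DCoh.HasRpush f] (F : CochainComplex X.Modules ℤ) [DCoh.HasLTensorCx F]
    (hq : DCoh.IsQCohD (DCoh.toD X F)) :
    ∃ (B : CochainComplex Y.Modules ℤ) (_ : DCoh.HasLTensorCx B),
      Nonempty (DerivedCategory.Q.obj B ≅ (DCoh.Rpush f).obj (DCoh.toD X F)) ∧
      ∀ i : ℤ, Nonempty ((QCohCat.isQCoh Y).ι ⋙ DerivedCategory.singleFunctor Y.Modules 0 ⋙ DCoh.LTensorCx B ⋙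
          DerivedCategory.homologyFunctor Y.Modules i ≅
        (QCohCat.isQCoh Y).ι ⋙ DerivedCategory.singleFunctor Y.Modules 0 ⋙ DCoh.Lpull f ⋙ DCoh.LTensorCx F ⋙
          DCoh.Rpush f ⋙ DerivedCategory.homologyFunctor Y.Modules i) := by
  obtain ⟨A, a, ha, hA, hA'⟩ := KInj.exists_kInjective_resolution _ F
  let eA : DerivedCategory.Q.obj A ≅ DCoh.toD X F := (asIso (DerivedCategory.Q.map a)).symm
  have hAq : DCoh.IsQCohD (DerivedCategory.Q.obj A) := isQCohD_of_iso' eA.symm hq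
  have := hasLTensorCx A
  let B := (pushCxF f).obj A
  have := hasLTensorCx B
  obtain ⟨c⟩ := nonempty_ltensorCx_congr_of_iso (E := A) (E' := F) eA
  have hu : IsIso (pushUnit f A) :=
    map_isIso_of (DCoh.pushKh f)
      (KInj.isIso_unit_of_rightOrthogonal (CochainComplex.IsKInjective.rightOrthogonal A))
  let eB : DerivedCategory.Q.obj B ≅ (DCoh.Rpush f).obj (DCoh.toD X F) :=
    ((DerivedCategory.quotientCompQhIso Y.Modules).app B).symm ≪≫ @asIso _ _ _ _ _ hu ≪≫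
      (SiteDer.Rres (rmor f)).mapIso ((DerivedCategory.quotientCompQhIso X.Modules).app A ≪≫ eA) ≪≫
        ((rpushIsoRres f).app _).symm
  obtain ⟨τ⟩ := nonempty_proj_iso f A ⟨hA', hA⟩ hAq
  obtain ⟨T⟩ := nonempty_iso_of_kflat (DCoh.LTensorCx B) (DCoh.Lpull f ⋙ DCoh.LTensorCx A ⋙ DCoh.Rpush f) τ
  let S : QCohCat.QCoh Y ⥤ (DCoh.IsQCohD (X := Y)).FullSubcategory :=
    ObjectProperty.lift _ ((QCohCat.isQCoh Y).ι ⋙ DerivedCategory.singleFunctor Y.Modules 0)
      (fun M => isQCohD_single M.obj M.property)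
  refine ⟨B, inferInstance, ⟨eB⟩, fun i => ⟨?_⟩⟩
  exact Functor.isoWhiskerRight (Functor.isoWhiskerLeft S T ≪≫
      Functor.isoWhiskerLeft ((QCohCat.isQCoh Y).ι ⋙ DerivedCategory.singleFunctor Y.Modules 0 ⋙ DCoh.Lpull f)
        (Functor.isoWhiskerRight c (DCoh.Rpush f))) (DerivedCategory.homologyFunctor Y.Modules i)
where
  isQCohD_single {Y : Scheme.{u}} (M : Y.Modules) (h : Coh.IsQCoh M) :
      DCoh.IsQCohD ((DerivedCategory.singleFunctor Y.Modules 0).obj M) := fun i => by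
    by_cases hi : i = 0
    · subst hi
      exact isQCoh_of_iso ((DerivedCategory.singleFunctorCompHomologyFunctorIso Y.Modules 0).app M).symm h
    · refine isQCoh_of_isZero ?_
      rcases lt_or_gt_of_ne hi with h' | h'
      · exact DerivedCategory.isZero_of_isGE _ 0 i h'
      · exact DerivedCategory.isZero_of_isLE _ 0 i h'

end GrothLib.KSix19.BettiExact
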