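import Groth.Agent.Lib.KSix19.Chart
import Groth.Agent.Lib.CohSS9.Basic
import Groth.Agent.Lib.OX.CohRHom
import Groth.Agent.Lib.RpushSupp20.Main
import Groth.Prelude.Def_DerSch2
import Groth.Prelude.Def_PerfD

/-! # Coherence of the cohomology of a relatively pseudo-coherent object and of its direct image -/

set_option autoImplicit false
set_option maxHeartbeats 1600000
set_option backward.isDefEq.respectTransparency false
universe u

open CategoryTheory CategoryTheory.Limits AlgebraicGeometry HomologicalComplex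

attribute [local instance] HasDerivedCategory.standard

namespace GrothLib.KSix19.BettiExact

open GrothLib.OX

theorem isCoh_HD_of_pseudoCoherent {Z : Scheme.{u}} [IsLocallyNoetherian Z] {K : DCoh.D Z} {m : ℤ}
    (h : DCoh.IsPseudoCoherentD m K) {i : ℤ} (hi : m < i) : Coh.IsCoh (DCoh.HD K i) := by
  refine Euler.isCoh_of_restrict fun x => ?_
  obtain ⟨V, hx, P, α, hP, hα⟩ := Approx.exists_open h x
  have := hα.1 i hi
  have hc : ∀ k, Coh.IsCoh (P.X k) := fun k => Euler.isCoh_of_isFinLocFree (hP.2 k)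
  exact ⟨V, hx, QCoh.isCoh_of_iso ((hdIso P i).symm ≪≫ asIso ((DerivedCategory.homologyFunctor _ i).map α) ≪≫
      (nonempty_hd_resD V.ι K i).some) (@CohSS9.isCoh_homology _ _ (P.sc i) (hc _).1 (hc _).1 (hc _))⟩

variable {X Y : Scheme.{u}}

/-- An object pseudo-coherent relative to a morphism to a locally Noetherian scheme has coherent cohomology. -/
theorem isCohD_of_isPseudoCoherentRelAll [IsLocallyNoetherian Y] (f : X ⟶ Y) {E : DCoh.D X}
    (hE : DerSch.IsPseudoCoherentRelAll f E) : DCoh.IsCohD E := fun k => by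
  let G := DerivedCategory.Q.objPreimage E
  let e : DCoh.toD X G ≅ E := DerivedCategory.Q.objObjPreimageIso E
  refine Euler.isCoh_of_restrict fun x => ?_
  obtain ⟨U, V, hle, N, φ, hxU, -, hV, hcl, hpc⟩ := exists_chart (hE (k - 1)) x
  have : IsNoetherianRing Γ(Y, V) := IsLocallyNoetherian.component_noetherian ⟨V, hV⟩
  have : IsLocallyNoetherian (Spec (CommRingCat.of (MvPolynomial (Fin N) Γ(Y, V)))) := inferInstance
  refine ⟨U, hxU, ?_⟩
  obtain ⟨e'⟩ := nonempty_homology_pushCx (DerSch.chartImm U φ) ((DCoh.restrictCx U).obj G) k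
  refine QCoh.isCoh_of_iso ((G.sc k).mapHomologyIso (Scheme.Modules.restrictFunctor U.ι) ≪≫
      (Scheme.Modules.restrictFunctor U.ι).mapIso ((hdIso G k).symm ≪≫
        (DerivedCategory.homologyFunctor _ k).mapIso e)) ?_
  exact QCoh.isCoh_of_pushforward (DerSch.chartImm U φ) _
    (QCoh.isCoh_of_iso (hdIso _ k ≪≫ e') (isCoh_HD_of_pseudoCoherent (hpc G ⟨e⟩) (by omega)))

/-- `Rf_* E` is pseudo-coherent and has coherent cohomology, for `f` proper and `Y` Noetherian. -/
theorem Rpush_pseudoCoherent [IsNoetherian Y] (f : X ⟶ Y) [IsProper f] [DCoh.HasRpush f] {E : DCoh.D X} (a b : ℤ)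
    [E.IsGE a] [E.IsLE b] (hE : DerSch.IsPseudoCoherentRelAll f E) (m : ℤ) :
    DCoh.IsPseudoCoherentD m ((DCoh.Rpush f).obj E) := by
  have : IsLocallyNoetherian X := LocallyOfFiniteType.isLocallyNoetherian f
  have hc := isCohD_of_isPseudoCoherentRelAll f hE
  have hP : WSerre.cohIn (RpushSupp20.properP f) E := fun i =>
    ⟨hc i, QCoh.isClosed_support_of_isCoh (hc i), inferInstance⟩
  obtain ⟨b', hb'⟩ := RpushSupp20.exists_isLE_Rpush f E a b hP
  exact isPseudoCoherentD_of_isCohD (RpushSupp20.isCohD_Rpush f E a hP).1 b' m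

theorem betti_congr {Z : Scheme.{u}} {K L : DCoh.D Z} (e : K ≅ L) (x : Z)
    [DCoh.HasLpull (Z.fromSpecResidueField x)] (i : ℤ) : PerfD.betti K x i = PerfD.betti L x i :=
  ((SheafOfModules.evaluation (Spec (Z.residueField x)).ringCatSheaf (Opposite.op ⊤)).mapIso
    ((DerivedCategory.homologyFunctor _ i).mapIso
      ((DCoh.Lpull (Z.fromSpecResidueField x)).mapIso e))).toLinearEquiv.finrank_eq

end GrothLib.KSix19.BettiExact
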