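import Groth.Agent.Lib.OX.TorAmp
import Groth.Agent.Lib.OX.PerfectLemmas

/-! # Left exactness of `M ↦ H^i(M ⊗ P)` when the cokernel of the incoming differential is flat -/

set_option autoImplicit false
set_option maxHeartbeats 800000
set_option backward.isDefEq.respectTransparency false
universe u

open CategoryTheory CategoryTheory.Limits AlgebraicGeometry HomologicalComplex

namespace GrothLib.KSix19.BettiExact

open GrothLib.OX

variable {X : Scheme.{u}}

/-- `M ↦ P ⊗ M`, termwise. -/
noncomputable def cxTensor (P : CochainComplex X.Modules ℤ) : X.Modules ⥤ CochainComplex X.Modules ℤ where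
  obj M := (tensorModCx M).obj P
  map g := (NatTrans.mapHomologicalComplex ((DCoh.tensorBi (X := X)).flip.map g) (ComplexShape.up ℤ)).app P
  map_id M := HomologicalComplex.hom_ext _ _ fun i =>
    congrArg (fun t => NatTrans.app t (P.X i)) ((DCoh.tensorBi (X := X)).flip.map_id M)
  map_comp f g := HomologicalComplex.hom_ext _ _ fun i =>
    congrArg (fun t => NatTrans.app t (P.X i)) ((DCoh.tensorBi (X := X)).flip.map_comp f g)

/-- `M ↦ H^i(P ⊗ M)`. -/
noncomputable def cohTensor (P : CochainComplex X.Modules ℤ) (i : ℤ) : X.Modules ⥤ X.Modules :=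
  cxTensor P ⋙ homologyFunctor X.Modules (ComplexShape.up ℤ) i

instance additive_cxTensor (P : CochainComplex X.Modules ℤ) : (cxTensor P).Additive :=
  ⟨fun {_ _ _ _} => HomologicalComplex.hom_ext _ _ fun k => ((DCoh.tensorBi (X := X)).obj (P.X k)).map_add⟩

instance additive_cohTensor (P : CochainComplex X.Modules ℤ) (i : ℤ) : (cohTensor P i).Additive :=
  inferInstanceAs ((cxTensor P ⋙ homologyFunctor X.Modules (ComplexShape.up ℤ) i).Additive)

instance preservesZeroMorphisms_cxTensor (P : CochainComplex X.Modules ℤ) :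
    (cxTensor P).PreservesZeroMorphisms :=
  ⟨fun M N => HomologicalComplex.hom_ext _ _ fun k => (((DCoh.tensorBi (X := X)).obj (P.X k)).map_zero M N)⟩

instance preservesZeroMorphisms_cohTensor (P : CochainComplex X.Modules ℤ) (i : ℤ) :
    (cohTensor P i).PreservesZeroMorphisms :=
  inferInstanceAs ((cxTensor P ⋙ homologyFunctor X.Modules (ComplexShape.up ℤ) i).PreservesZeroMorphisms)

/-- Naturality in the complex. -/
noncomputable def cxTensorMap {P Q : CochainComplex X.Modules ℤ} (φ : P ⟶ Q) : cxTensor P ⟶ cxTensor Q where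
  app M := (tensorModCx M).map φ
  naturality M N g := (NatTrans.naturality
    (NatTrans.mapHomologicalComplex ((DCoh.tensorBi (X := X)).flip.map g) (ComplexShape.up ℤ)) φ).symm

theorem shortExact_tensorBi {A : X.Modules} (hA : FlatMod.IsFlat A) {S : ShortComplex X.Modules}
    (hS : S.ShortExact) : (S.map ((DCoh.tensorBi (X := X)).obj A)).ShortExact :=
  ShortComplex.shortExact_of_iso (S.mapNatIso ((tensorBraiding (X := X)).app A)) (tensor_map_shortExact hA hS)

theorem shortExact_cxTensor {P : CochainComplex X.Modules ℤ} (hP : ∀ k, FlatMod.IsFlat (P.X k))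
    (S : ShortComplex X.Modules) (hS : S.ShortExact) [(cxTensor P).PreservesZeroMorphisms] :
    (S.map (cxTensor P)).ShortExact :=
  HomologicalComplex.shortExact_of_degreewise_shortExact _ fun k => shortExact_tensorBi (hP k) hS

/-- A flat cokernel of the incoming differential makes `H^i(P ⊗ -)` preserve monomorphisms. -/
theorem mono_cohTensor_map {P : CochainComplex X.Modules ℤ} (i : ℤ)
    (hC : FlatMod.IsFlat (cokernel (P.d (i - 1) i))) {M N : X.Modules} (g : M ⟶ N) [Mono g] :
    Mono ((cohTensor P i).map g) := by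
  have hrel : (ComplexShape.up ℤ).prev i = i - 1 := by simp
  let F := fun M : X.Modules => (DCoh.tensorBi (X := X)).flip.obj M
  have hco : ∀ M : X.Modules, ∃ e : ((cxTensor P).obj M).opcycles i ≅ (F M).obj (cokernel (P.d (i - 1) i)),
      ((cxTensor P).obj M).pOpcycles i ≫ e.hom = (F M).map (cokernel.π (P.d (i - 1) i)) := fun M => by
    have hc := isColimitCoforkMapOfIsColimit' (F M) (cokernel.condition (P.d (i - 1) i))
      (cokernelIsCokernel (P.d (i - 1) i))
    let hd := ((cxTensor P).obj M).opcyclesIsCokernel (i - 1) i hrel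
    exact ⟨IsColimit.coconePointUniqueUpToIso hd hc,
      IsColimit.comp_coconePointUniqueUpToIso_hom hd hc WalkingParallelPair.one⟩
  obtain ⟨eM, hM⟩ := hco M
  obtain ⟨eN, hN⟩ := hco N
  let t := ((DCoh.tensorBi (X := X)).flip.map g).app (cokernel (P.d (i - 1) i))
  have hsq : opcyclesMap ((cxTensor P).map g) i ≫ eN.hom = eM.hom ≫ t := by
    rw [← cancel_epi (((cxTensor P).obj M).pOpcycles i), p_opcyclesMap_assoc, hN]
    exact ((NatTrans.naturality ((DCoh.tensorBi (X := X)).flip.map g) (cokernel.π (P.d (i - 1) i))).symm).trans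
      ((congrArg (· ≫ t) hM.symm).trans (Category.assoc _ _ _))
  have ht : Mono t := by
    let S := ShortComplex.mk g (cokernel.π g) (cokernel.condition g)
    have hS : S.ShortExact := { exact := ShortComplex.exact_of_g_is_cokernel _ (cokernelIsCokernel g) }
    exact (shortExact_tensorBi hC hS).mono_f
  have : Mono (opcyclesMap ((cxTensor P).map g) i ≫ eN.hom) := by rw [hsq]; infer_instance
  have : Mono (opcyclesMap ((cxTensor P).map g) i) := mono_of_mono _ eN.hom
  have h := homologyι_naturality ((cxTensor P).map g) i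
  have : Mono (homologyMap ((cxTensor P).map g) i ≫ ((cxTensor P).obj N).homologyι i) := by
    rw [h]; infer_instance
  exact mono_of_mono (homologyMap ((cxTensor P).map g) i) (((cxTensor P).obj N).homologyι i)

/-- Two flat cokernels make `H^i(P ⊗ -)` exact. -/
theorem shortExact_cohTensor {P : CochainComplex X.Modules ℤ} (hP : ∀ k, FlatMod.IsFlat (P.X k)) (i : ℤ)
    (h₀ : FlatMod.IsFlat (cokernel (P.d (i - 1) i))) (h₁ : FlatMod.IsFlat (cokernel (P.d i (i + 1))))
    (S : ShortComplex X.Modules) (hS : S.ShortExact) [(cxTensor P).PreservesZeroMorphisms]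
    [(cohTensor P i).PreservesZeroMorphisms] : (S.map (cohTensor P i)).ShortExact := by
  have hT := shortExact_cxTensor hP S hS
  have := hS.mono_f
  have : Mono ((cohTensor P i).map S.f) := mono_cohTensor_map i h₀ S.f
  have h₁' : FlatMod.IsFlat (cokernel (P.d (i + 1 - 1) (i + 1))) := by
    have key : ∀ k, k = i → FlatMod.IsFlat (cokernel (P.d k (i + 1))) := fun k hk => by subst hk; exact h₁
    exact key _ (by omega)
  have : Mono (homologyMap (S.map (cxTensor P)).f (i + 1)) := mono_cohTensor_map (i + 1) h₁' S.f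
  have hij : (ComplexShape.up ℤ).Rel i (i + 1) := rfl
  have hδ : hT.δ i (i + 1) hij = 0 := zero_of_comp_mono _ (hT.δ_comp i (i + 1) hij)
  have : Epi ((cohTensor P i).map S.g) := (hT.homology_exact₃ i (i + 1) hij).epi_f hδ
  exact { exact := hT.homology_exact₂ i, mono_f := inferInstanceAs (Mono ((cohTensor P i).map S.f)),
          epi_g := inferInstanceAs (Epi ((cohTensor P i).map S.g)) }

end GrothLib.KSix19.BettiExact
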