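import Groth.Agent.Lib.KSix19.BettiExact.Main
import Groth.Agent.Lib.OX.PerfectCriterion
import Groth.Agent.Lib.OX.QCohStalk
import Groth.Agent.Lib.OX.OneDegLocus
import Groth.Agent.Lib.QCohCat20.Category

/-! # Exactness of `H^p(- ⊗^L E)` gives locally free cohomology and locally constant Betti number -/

set_option autoImplicit false
set_option maxHeartbeats 1600000
set_option backward.isDefEq.respectTransparency false
universe u

open CategoryTheory CategoryTheory.Limits AlgebraicGeometry HomologicalComplex IsLocalRing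

attribute [local instance] HasDerivedCategory.standard

namespace GrothLib.KSix19.BettiExact

open GrothLib.OX MonoidalCategory

variable {X : Scheme.{u}}

/-- Conversely, monomorphism preservation of `H^i(P ⊗ -)` is seen on the cokernel of the incoming differential. -/
theorem mono_cokernel_tensor {P : CochainComplex X.Modules ℤ} (i : ℤ) (hP : FlatMod.IsFlat (P.X (i + 1)))
    {M N : X.Modules} (g : M ⟶ N) [Mono g] [Mono ((cohTensor P i).map g)] :
    Mono (((DCoh.tensorBi (X := X)).obj (cokernel (P.d (i - 1) i))).map g) := by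
  have hrel : (ComplexShape.up ℤ).prev i = i - 1 := by simp
  let F := fun M : X.Modules => (DCoh.tensorBi (X := X)).flip.obj M
  have hco : ∀ M : X.Modules, ∃ e : ((cxTensor P).obj M).opcycles i ≅ (F M).obj (cokernel (P.d (i - 1) i)),
      ((cxTensor P).obj M).pOpcycles i ≫ e.hom = (F M).map (cokernel.π (P.d (i - 1) i)) := fun M => by
    have hc := isColimitCoforkMapOfIsColimit' (F M) (cokernel.condition (P.d (i - 1) i))
      (cokernelIsCokernel (P.d (i - 1) i))
    let hd := ((cxTensor P).obj M).opcyclesIsCokernel (i - 1) i hrel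
    exact ⟨IsColimit.coconePointUniqueUpToIso hd hc,
      IsColimit.comp_coconePointUniqueUpToIso_hom hd hc WalkingParallelPair.one⟩
  obtain ⟨eM, hM⟩ := hco M
  obtain ⟨eN, hN⟩ := hco N
  let K := (cxTensor P).obj M
  let L := (cxTensor P).obj N
  let ψ : K ⟶ L := (cxTensor P).map g
  let t := ((DCoh.tensorBi (X := X)).obj (cokernel (P.d (i - 1) i))).map g
  have hsq : opcyclesMap ψ i ≫ eN.hom = eM.hom ≫ t := by
    rw [← cancel_epi (K.pOpcycles i), p_opcyclesMap_assoc, hN]
    exact ((NatTrans.naturality ((DCoh.tensorBi (X := X)).flip.map g) (cokernel.π (P.d (i - 1) i))).symm).trans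
      ((congrArg (· ≫ t) hM.symm).trans (Category.assoc _ _ _))
  have hm : Mono (opcyclesMap ψ i) := by
    refine Preadditive.mono_of_cancel_zero _ fun {Z} k hk => ?_
    have : Mono (ψ.f (i + 1)) :=
      (shortExact_tensorBi hP (S := ShortComplex.mk g (cokernel.π g) (cokernel.condition g))
        { exact := ShortComplex.exact_of_g_is_cokernel _ (cokernelIsCokernel g) }).mono_f
    have hnat : K.fromOpcycles i (i + 1) ≫ ψ.f (i + 1) = opcyclesMap ψ i ≫ L.fromOpcycles i (i + 1) := by
      rw [← cancel_epi (K.pOpcycles i), p_fromOpcycles_assoc, p_opcyclesMap_assoc, p_fromOpcycles]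
      exact (ψ.comm i (i + 1)).symm
    have h1 : k ≫ K.fromOpcycles i (i + 1) = 0 := by
      rw [← cancel_mono (ψ.f (i + 1)), Category.assoc, hnat, reassoc_of% hk, zero_comp, zero_comp]
    obtain ⟨l, hl⟩ := KernelFork.IsLimit.lift' (K.homologyIsKernel i (i + 1) (by simp)) k h1
    have : Mono (homologyMap ψ i) := inferInstanceAs (Mono ((cohTensor P i).map g))
    have h2 : l ≫ homologyMap ψ i = 0 := by
      rw [← cancel_mono (L.homologyι i), Category.assoc, homologyι_naturality, ← Category.assoc, zero_comp]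
      exact (congrArg (· ≫ opcyclesMap ψ i) hl).trans hk
    rw [show l = 0 from zero_of_comp_mono _ h2] at hl
    exact hl.symm.trans zero_comp
  have : Mono (eM.hom ≫ t) := by rw [← hsq]; infer_instance
  exact (MorphismProperty.monomorphisms _).cancel_left_of_respectsIso eM.hom t |>.1 this

/-- Right exactness in degree `i` gives left exactness in degree `i + 1`. -/
theorem mono_succ_of_epi {P : CochainComplex X.Modules ℤ} (hP : ∀ k, FlatMod.IsFlat (P.X k)) (i : ℤ)
    {M N : X.Modules} (g : M ⟶ N) [Mono g] [Epi ((cohTensor P i).map (cokernel.π g))] :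
    Mono ((cohTensor P (i + 1)).map g) := by
  let S := ShortComplex.mk g (cokernel.π g) (cokernel.condition g)
  have hS : S.ShortExact := { exact := ShortComplex.exact_of_g_is_cokernel _ (cokernelIsCokernel g) }
  have hT := shortExact_cxTensor hP S hS
  have hij : (ComplexShape.up ℤ).Rel i (i + 1) := rfl
  have : Epi (homologyMap (S.map (cxTensor P)).g i) := inferInstanceAs (Epi ((cohTensor P i).map (cokernel.π g)))
  have hδ : hT.δ i (i + 1) hij = 0 := zero_of_epi_comp _ (hT.comp_δ i (i + 1) hij)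
  exact (hT.homology_exact₁ i (i + 1) hij).mono_g hδ

theorem pushStalkHom_natural {Z : Scheme.{u}} (g : Z ⟶ X) (y : Z) {M N : Z.Modules} (f : M ⟶ N) :
    (stalk (g y)).map ((Scheme.Modules.pushforward g).map f) ≫ QCoh.pushStalkHom g y N =
      QCoh.pushStalkHom g y M ≫ (ModuleCat.restrictScalars (g.stalkMap y).hom).map ((stalk y).map f) := by
  refine ModuleCat.hom_ext (LinearMap.ext fun e => ?_)
  obtain ⟨V, hV, s, rfl⟩ := germ_exists ((Scheme.Modules.pushforward g).obj M).val e
  refine (congrArg (fun z => (QCoh.pushStalkHom g y N).hom z) (stalkPre_map_germ _ V hV s)).trans ?_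
  refine (QCoh.pushStalkHom_germ g y N V hV _).trans ?_
  refine Eq.symm ((congrArg (fun z => ((stalk y).map f).hom z) (QCoh.pushStalkHom_germ g y M V hV s)).trans ?_)
  exact stalkPre_map_germ _ (g ⁻¹ᵁ V) hV s

/-- Stalk of the pushforward of a tilde at the closed point. -/
theorem nonempty_pushTildeStalkIso {A : CommRingCat.{u}} [IsLocalRing A] (g : Spec A ⟶ X) :
    Nonempty (tilde.functor A ⋙ Scheme.Modules.pushforward g ⋙ stalk (g (closedPoint A)) ≅
      ModuleCat.extendScalars (specToStalk A (closedPoint A)) ⋙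
        ModuleCat.restrictScalars (g.stalkMap (closedPoint A)).hom) := by
  have : ∀ M : (Spec A).Modules, IsIso (QCoh.pushStalkHom g (closedPoint A) M) := fun M =>
    (ConcreteCategory.isIso_iff_bijective _).2 (pushStalkHom_bijective_local g M)
  let n : Scheme.Modules.pushforward g ⋙ stalk (g (closedPoint A)) ≅
      stalk (closedPoint A) ⋙ ModuleCat.restrictScalars (g.stalkMap (closedPoint A)).hom :=
    NatIso.ofComponents (fun M => asIso (QCoh.pushStalkHom g (closedPoint A) M))
      (fun f => pushStalkHom_natural g (closedPoint A) f)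
  exact ⟨Functor.isoWhiskerLeft (tilde.functor A) n ≪≫ (Functor.associator _ _ _).symm ≪≫
    Functor.isoWhiskerRight (tildeStalkIso A (closedPoint A)) _⟩

/-- Flatness is detected by monomorphisms of quasi-coherent modules. -/
theorem flat_of_qcoh_test [QuasiSeparatedSpace X] {C : X.Modules}
    (h : ∀ {M N : X.Modules} (g : M ⟶ N), Mono g → Coh.IsQCoh M → Coh.IsQCoh N →
      Mono (((DCoh.tensorBi (X := X)).obj C).map g)) : FlatMod.IsFlat C := by
  refine (flat_iff C).2 fun x => ?_
  let A := X.presheaf.stalk x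
  let g := X.fromSpecStalk x
  have hg : IsIso (g.stalkMap (closedPoint A)) := by
    have h := Scheme.stalkClosedPointTo_fromSpecStalk x
    rw [Scheme.stalkClosedPointTo, ← Iso.eq_comp_inv] at h
    rw [h]; infer_instance
  suffices ∀ y : X, y = g (closedPoint A) → Module.Flat (X.presheaf.stalk y) ((stalk y).obj C) from
    this x Scheme.fromSpecStalk_closedPoint.symm
  rintro _ rfl
  let σ := (g.stalkMap (closedPoint A)).hom
  let τ := specToStalk A (closedPoint A)
  let Φ := tilde.functor A ⋙ Scheme.Modules.pushforward g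
  have : (Scheme.Modules.pushforward g).IsRightAdjoint :=
    (Scheme.Modules.pullbackPushforwardAdjunction g).isRightAdjoint
  have hbσ : Function.Bijective σ := ConcreteCategory.bijective_of_isIso (g.stalkMap (closedPoint A))
  have hbτ : Function.Bijective τ := specToStalk_closedPoint_bijective A
  obtain ⟨e⟩ : Nonempty (Φ ⋙ stalk (g (closedPoint A)) ≅
      ModuleCat.extendScalars τ ⋙ ModuleCat.restrictScalars σ) :=
    (nonempty_pushTildeStalkIso g).map fun i => Functor.associator _ _ _ ≪≫ i
  have : (ModuleCat.restrictScalars.{u} σ).IsEquivalence :=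
    ModuleCat.restrictScalars_isEquivalence_of_ringEquiv (RingEquiv.ofBijective σ hbσ)
  have : (ModuleCat.restrictScalars.{u} τ).IsEquivalence :=
    ModuleCat.restrictScalars_isEquivalence_of_ringEquiv (RingEquiv.ofBijective τ hbτ)
  have := (ModuleCat.extendRestrictScalarsAdj τ).isEquivalence_left_of_isEquivalence_right
  let L := ModuleCat.extendScalars τ ⋙ ModuleCat.restrictScalars.{u} σ
  let R := X.presheaf.stalk (g (closedPoint A))
  refine Module.Flat.iff_lTensor_preserves_injective_linearMap.2 fun {N N'} _ _ _ _ f hf => ?_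
  let f' : ModuleCat.of R N ⟶ ModuleCat.of R N' := ModuleCat.ofHom f
  have : Mono f' := (ModuleCat.mono_iff_injective f').2 hf
  let m := L.inv.map f'
  have hq : ∀ N₀, Coh.IsQCoh (Φ.obj N₀) := fun N₀ =>
    have : ((tilde.functor A).obj N₀).IsQuasicoherent := inferInstanceAs (tilde N₀).IsQuasicoherent
    QCoh.isQuasicoherent_pushforward g _
  have : Mono ((tilde.functor A).map m) := inferInstance
  have : Mono (Φ.map m) := (Scheme.Modules.pushforward g).map_mono ((tilde.functor A).map m)
  have h1 := h (Φ.map m) this (hq _) (hq _)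
  let s := stalk (g (closedPoint A))
  have h2 : Mono (s.map (((DCoh.tensorBi (X := X)).obj C).map (Φ.map m))) := inferInstance
  let a : Arrow.mk ((Φ ⋙ s).map m) ≅ Arrow.mk f' :=
    Arrow.isoMk (e.app _ ≪≫ L.asEquivalence.counitIso.app _) (e.app _ ≪≫ L.asEquivalence.counitIso.app _) (by
      change (e.hom.app _ ≫ _) ≫ f' = (Φ ⋙ s).map m ≫ e.hom.app _ ≫ _
      rw [← Category.assoc, e.hom.naturality, Category.assoc, Category.assoc]
      congr 1
      exact (L.asEquivalence.counitIso.hom.naturality f').symm)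
  have h3 : Mono ((tensorLeft (s.obj C)).map ((Φ ⋙ s).map m)) :=
    ((MorphismProperty.monomorphisms _).arrow_mk_iso_iff
      (Arrow.isoMk ((tensorLeftStalkIso _ C).app _) ((tensorLeftStalkIso _ C).app _)
        ((tensorLeftStalkIso _ C).hom.naturality (Φ.map m)).symm)).1 h2
  have h4 : Mono ((tensorLeft (s.obj C)).map f') :=
    ((MorphismProperty.monomorphisms _).arrow_mk_iso_iff ((tensorLeft (s.obj C)).mapArrow.mapIso a)).1 h3
  exact (ModuleCat.mono_iff_injective _).1 h4

theorem isFinLocFree_homology {P : CochainComplex X.Modules ℤ} (hP : DCoh.IsStrictlyPerfect P) (i : ℤ)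
    (h₀ : FlatMod.IsFlat (cokernel (P.d (i - 1) i))) (h₁ : FlatMod.IsFlat (cokernel (P.d i (i + 1)))) :
    FlatMod.IsFinLocFree (P.homology i) := by
  let d₀ := P.d (i - 1) i
  let d₁ := P.d i (i + 1)
  have hC₀ := isFinLocFree_cokernel_of_flat d₀ (hP.2 _) (hP.2 _) h₀
  have hC₁ := isFinLocFree_cokernel_of_flat d₁ (hP.2 _) (hP.2 _) h₁
  have hI : FlatMod.IsFinLocFree (Abelian.image d₁) := isFinLocFree_kernel (cokernel.π d₁) (hP.2 _) hC₁
  have hw : d₀ ≫ Abelian.factorThruImage d₁ = 0 := by
    rw [← cancel_mono (Abelian.image.ι d₁), Category.assoc, Abelian.image.fac, zero_comp]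
    exact P.d_comp_d _ _ _
  let v : cokernel d₀ ⟶ Abelian.image d₁ := cokernel.desc d₀ (Abelian.factorThruImage d₁) hw
  have : Epi v := by
    have : Epi (cokernel.π d₀ ≫ v) := by rw [cokernel.π_desc]; infer_instance
    exact epi_of_epi (cokernel.π d₀) v
  let hc : IsColimit (CokernelCofork.ofπ (cokernel.π d₀) (cokernel.condition d₀)) := cokernelIsCokernel d₀
  let e := IsColimit.coconePointUniqueUpToIso
    (P.opcyclesIsCokernel (i - 1) i (by simp)) hc
  have he : P.pOpcycles i ≫ e.hom = cokernel.π d₀ :=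
    IsColimit.comp_coconePointUniqueUpToIso_hom (P.opcyclesIsCokernel (i - 1) i (by simp)) hc
      WalkingParallelPair.one
  have hsq : P.fromOpcycles i (i + 1) ≫ (Iso.refl (P.X (i + 1))).hom = e.hom ≫ v ≫ Abelian.image.ι d₁ := by
    rw [Iso.refl_hom, Category.comp_id, ← cancel_epi (P.pOpcycles i), p_fromOpcycles, reassoc_of% he,
      cokernel.π_desc_assoc, Abelian.image.fac]
  exact DCoh.isFinLocFree_of_iso
    (IsLimit.conePointUniqueUpToIso (P.homologyIsKernel i (i + 1) (by simp))
        (kernelIsKernel (P.fromOpcycles i (i + 1))) ≪≫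
      kernel.mapIso _ (v ≫ Abelian.image.ι d₁) e (Iso.refl _) hsq ≪≫ kernelCompMono v _).symm
    (isFinLocFree_kernel v hC₀ hI)

/-- **Exactness on a class of test modules gives locally free cohomology and locally constant Betti number.** -/
theorem of_exact [∀ x : X, DCoh.HasLpull (X.fromSpecResidueField x)] (F : CochainComplex X.Modules ℤ)
    [DCoh.HasLTensorCx F] (p : ℤ) (hE : DCoh.IsPseudoCoherentD (p - 1) (DCoh.toD X F))
    (Pr : X.Modules → Prop)
    (hpush : ∀ (W : Scheme.{u}) (j : W ⟶ X) [IsOpenImmersion j] [IsAffine W] (N : W.Modules),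
      Coh.IsQCoh N → Pr ((Scheme.Modules.pushforward j).obj N))
    (hcoker : ∀ {M N : X.Modules} (g : M ⟶ N), Pr M → Pr N → Pr (cokernel g))
    (hmono : ∀ {M N : X.Modules} (g : M ⟶ N), Mono g → Pr M → Pr N →
      Mono ((DerivedCategory.singleFunctor X.Modules 0 ⋙ DCoh.LTensorCx F ⋙
        DerivedCategory.homologyFunctor X.Modules p).map g))
    (hepi : ∀ {M N : X.Modules} (g : M ⟶ N), Epi g → Pr M → Pr N →
      Epi ((DerivedCategory.singleFunctor X.Modules 0 ⋙ DCoh.LTensorCx F ⋙
        DerivedCategory.homologyFunctor X.Modules p).map g)) :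
    FlatMod.IsFinLocFree (DCoh.HD (DCoh.toD X F) p) ∧
      IsLocallyConstant (fun x : X => PerfD.betti (DCoh.toD X F) x p) := by
  obtain ⟨F', q, hF', hflat, hq, -⟩ := exists_kflat_resolution F
  obtain ⟨e⟩ := nonempty_functor_iso F hF' q p
  let eF : DerivedCategory.Q.obj F' ≅ DCoh.toD X F := asIso (DerivedCategory.Q.map q)
  have hmono' : ∀ {M N : X.Modules} (g : M ⟶ N), Mono g → Pr M → Pr N → Mono ((cohTensor F' p).map g) :=
    fun {M N} g hg hM hN => ((MorphismProperty.monomorphisms _).arrow_mk_iso_iff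
      (Arrow.isoMk (e.app M) (e.app N) (e.hom.naturality g).symm)).1 (hmono g hg hM hN)
  have hmono'' : ∀ {M N : X.Modules} (g : M ⟶ N), Mono g → Pr M → Pr N →
      Mono ((cohTensor F' (p + 1)).map g) := fun {M N} g hg hM hN => by
    have : Epi ((cohTensor F' p).map (cokernel.π g)) := ((MorphismProperty.epimorphisms _).arrow_mk_iso_iff
      (Arrow.isoMk (e.app _) (e.app _) (e.hom.naturality (cokernel.π g)).symm)).1
        (hepi (cokernel.π g) coequalizer.π_epi hN (hcoker g hM hN))
    exact mono_succ_of_epi hflat p g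
  have key : ∀ x : X, ∃ (W : Scheme.{u}) (j : W ⟶ X) (_ : IsOpenImmersion j)
      (P : CochainComplex W.Modules ℤ) (φ : P ⟶ (resCx j).obj F'), x ∈ Set.range j ∧
        DCoh.IsStrictlyPerfect P ∧ DerCat.Good (DerivedCategory.Q.map φ) (p - 1) ∧
        FlatMod.IsFlat (cokernel (P.d (p - 1) p)) ∧ FlatMod.IsFlat (cokernel (P.d p (p + 1))) := fun x => by
    obtain ⟨U, jU, hjU, ⟨y, hy⟩, hA⟩ := isPseudoCoherentD_iff.1 hE x
    obtain ⟨P₁, α, hP₁, hα⟩ := hA.of_iso ((resD jU).mapIso eF.symm ≪≫ (resDFac jU).app F')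
    obtain ⟨V, β, hyV, hβ⟩ := exists_resD_chain hP₁ α y
    obtain ⟨W, hW, hyW, hWV⟩ := exists_isAffineOpen_mem_and_subset (x := y) (U := V) hyV
    let k : (W : Scheme.{u}) ⟶ (V : Scheme.{u}) := U.homOfLE hWV
    let jV := V.ι ≫ jU
    let j := k ≫ jV
    have hβ' : DerCat.Good (DerivedCategory.Q.map (β ≫ (resCxCompIso V.ι jU).inv.app F')) (p - 1) := by
      have h := hα.map (Scheme.Modules.restrictFunctor V.ι)
      rw [Functor.map_comp]
      refine DerCat.Good.comp ?_ (DerCat.good_of_isIso _ _)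
      refine DerCat.good_congr ((resDFac V.ι).app P₁) ((resDFac V.ι).app _) ?_ h
      change (resD V.ι).map α ≫ _ = _
      rw [hβ]
      simp
    let P := (resCx k).obj ((resCx V.ι).obj P₁)
    let φ : P ⟶ (resCx j).obj F' :=
      (resCx k).map (β ≫ (resCxCompIso V.ι jU).inv.app F') ≫ (resCxCompIso k jV).inv.app F'
    have hφ : DerCat.Good (DerivedCategory.Q.map φ) (p - 1) := restrict_approx jV hβ' k
    have hP : DCoh.IsStrictlyPerfect P := strictlyPerfect_resCx k (strictlyPerfect_resCx V.ι hP₁)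
    have hxj : x ∈ Set.range j := ⟨⟨y, hyW⟩, by
      change jU (V.ι (k ⟨y, hyW⟩)) = x
      rw [← Scheme.Hom.comp_apply k V.ι, Scheme.homOfLE_ι]
      exact hy⟩
    have : IsAffine (W : Scheme.{u}) := hW
    let φ' : P ⟶ (pullCxF j).obj F' := φ ≫ (resPullCxIso j).hom.app F'
    have hφ' : DerCat.Good (DerivedCategory.Q.map φ') (p - 1) := by
      rw [Functor.map_comp]
      exact hφ.comp (DerCat.good_of_isIso _ _)
    have hPK := isKFlat_of_strictlyPerfect hP
    have hPf : ∀ k, FlatMod.IsFlat (P.X k) := fun k => flat_of_isFinLocFree (hP.2 k)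
    have hpres : (Scheme.Modules.pullback j).PreservesMonomorphisms :=
      have := preservesFiniteLimits_pullback_of_flat j
      inferInstance
    have : (Scheme.Modules.pushforward j).IsRightAdjoint :=
      (Scheme.Modules.pullbackPushforwardAdjunction j).isRightAdjoint
    let ε : Scheme.Modules.pushforward j ⋙ Scheme.Modules.pullback j ≅ 𝟭 _ :=
      Functor.isoWhiskerLeft _ (Scheme.Modules.restrictFunctorIsoPullback j).symm ≪≫
        asIso (Scheme.Modules.restrictAdjunction j).counit
    have htest : ∀ i, p - 1 < i →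
        (∀ {M N : X.Modules} (g : M ⟶ N), Mono g → Pr M → Pr N → Mono ((cohTensor F' i).map g)) →
        FlatMod.IsFlat (cokernel (P.d (i - 1) i)) := fun i hi hm => by
      refine flat_of_qcoh_test fun {M N} g hg hM hN => ?_
      let pg := (Scheme.Modules.pushforward j).map g
      have : Mono pg := inferInstance
      have h1 := hm pg this (hpush _ j M hM) (hpush _ j N hN)
      have h2 : Mono ((cohTensor F' i ⋙ Scheme.Modules.pullback j).map pg) :=
        (Scheme.Modules.pullback j).map_mono ((cohTensor F' i).map pg)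
      have := isIso_cxTensorMap φ' hPK (isKFlat_pullback j hF') hφ' i hi
      let i₁ : cohTensor P i ≅ cohTensor ((pullCxF j).obj F') i :=
        @asIso _ _ _ _ (Functor.whiskerRight (cxTensorMap φ')
          (HomologicalComplex.homologyFunctor (W : Scheme.{u}).Modules (ComplexShape.up ℤ) i)) this
      let E := pullCohTensorIso j F' i ≪≫ Functor.isoWhiskerLeft (Scheme.Modules.pullback j) i₁.symm
      let E' : Scheme.Modules.pushforward j ⋙ cohTensor F' i ⋙ Scheme.Modules.pullback j ≅ cohTensor P i :=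
        Functor.isoWhiskerLeft _ E ≪≫ (Functor.associator _ _ _).symm ≪≫ Functor.isoWhiskerRight ε _ ≪≫
          Functor.leftUnitor _
      have : Mono ((cohTensor P i).map g) := ((MorphismProperty.monomorphisms _).arrow_mk_iso_iff
        (Arrow.isoMk (E'.app M) (E'.app N) (E'.hom.naturality g).symm)).1 h2
      exact mono_cokernel_tensor i (hPf (i + 1)) g
    have h₁ := htest (p + 1) (by omega) (fun g => hmono'' g)
    have key : ∀ k, k = p → FlatMod.IsFlat (cokernel (P.d k (p + 1))) → FlatMod.IsFlat (cokernel (P.d p (p + 1))) :=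
      fun k hk h => by subst hk; exact h
    exact ⟨_, j, inferInstance, P, φ, hxj, hP, hφ, htest p (by omega) (fun g => hmono' g),
      key _ (by omega) h₁⟩
  refine ⟨isFinLocFree_of_local fun x => ?_, (IsLocallyConstant.iff_exists_open _).2 fun x => ?_⟩
  · obtain ⟨W, j, hj, P, φ, hx, hP, hφ, h₀, h₁⟩ := key x
    refine ⟨W, j, hj, hx, DCoh.isFinLocFree_of_iso ?_ (isFinLocFree_homology hP p h₀ h₁)⟩
    have := hφ.1 p (by omega)
    exact (hdIso P p).symm ≪≫
      (asIso ((DerivedCategory.homologyFunctor W.Modules p).map (DerivedCategory.Q.map φ)) ≪≫ hdIso _ p ≪≫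
        (F'.sc p).mapHomologyIso (Scheme.Modules.restrictFunctor j) ≪≫
        (Scheme.Modules.restrictFunctor j).mapIso ((hdIso F' p).symm ≪≫
          (DerivedCategory.homologyFunctor X.Modules p).mapIso eF))
  · obtain ⟨W, j, hj, P, φ, ⟨y, hy⟩, hP, hφ, h₀, h₁⟩ := key x
    obtain ⟨A, n, hA, ⟨a⟩⟩ := hP.2 p y
    obtain ⟨B, n', hB, ⟨b⟩⟩ := hP.2 (p + 1) y
    obtain ⟨V₀, r, hV₀, ⟨c⟩⟩ := isFinLocFree_cokernel_of_flat _ (hP.2 _) (hP.2 _) h₀ y
    obtain ⟨V₁, r', hV₁, ⟨c'⟩⟩ := isFinLocFree_cokernel_of_flat _ (hP.2 _) (hP.2 _) h₁ y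
    let V := A ⊓ B ⊓ V₀ ⊓ V₁
    obtain ⟨a'⟩ := DCoh.exists_free_restrict_le ((inf_le_left.trans inf_le_left).trans inf_le_left : V ≤ A) a
    obtain ⟨b'⟩ := DCoh.exists_free_restrict_le ((inf_le_left.trans inf_le_left).trans inf_le_right : V ≤ B) b
    obtain ⟨c₀⟩ := DCoh.exists_free_restrict_le (inf_le_left.trans inf_le_right : V ≤ V₀) c
    obtain ⟨c₁⟩ := DCoh.exists_free_restrict_le (inf_le_right : V ≤ V₁) c'
    let jV := V.ι ≫ j
    let Q := (resCx V.ι).obj P
    have hQ := strictlyPerfect_resCx V.ι hP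
    have hψ := restrict_approx j hφ V.ι
    let R := Scheme.Modules.restrictFunctor V.ι
    have hval : ∀ v : (V : Scheme.{u}), PerfD.betti (DCoh.toD X F) (jV v) p + n' = r + r' := fun v => by
      let t := pt (jV v)
      let g := ptLift jV (jV v) ⟨v, rfl⟩
      have hK := isField_residue (jV v) t
      have hb := betti_eq (DCoh.toD X F) hF' eF jV hQ _ hψ (jV v) ⟨v, rfl⟩ t (by omega : p - 1 < p)
      have e₁ := betti_formula g t hK Q p a' b'
      have f₀ : fibDim g t (cokernel (Q.d (p - 1) p)) = r :=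
        (ModFibre.finrank_eq_of_iso ((fib g t).mapIso
          ((PreservesCokernel.iso R (P.d (p - 1) p)).symm ≪≫ c₀))).trans (fibDim_free g t r hK)
      have f₁ : fibDim g t (cokernel (Q.d p (p + 1))) = r' :=
        (ModFibre.finrank_eq_of_iso ((fib g t).mapIso
          ((PreservesCokernel.iso R (P.d p (p + 1))).symm ≪≫ c₁))).trans (fibDim_free g t r' hK)
      rw [f₀, f₁] at e₁
      exact (congrArg (· + n') hb).trans e₁
    refine ⟨jV.opensRange, jV.opensRange.2, ⟨⟨y, ⟨⟨hA, hB⟩, hV₀⟩, hV₁⟩, hy⟩, ?_⟩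
    rintro z ⟨v, rfl⟩
    have h1 := hval v
    have h2 := hval ⟨y, ⟨⟨hA, hB⟩, hV₀⟩, hV₁⟩
    change PerfD.betti (DCoh.toD X F) (j y) p + n' = _ at h2
    rw [hy] at h2
    change PerfD.betti (DCoh.toD X F) (jV v) p = PerfD.betti (DCoh.toD X F) x p
    omega

end GrothLib.KSix19.BettiExact
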