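import Groth.Agent.Lib.OX.SingleDegree
import Mathlib.AlgebraicGeometry.Properties

/-! # Constant fibre rank over a reduced scheme gives flatness -/

set_option autoImplicit false
set_option maxHeartbeats 800000
universe u

open CategoryTheory CategoryTheory.Limits AlgebraicGeometry Opposite TopologicalSpace

namespace GrothLib.KSix19.BettiExact

open GrothLib.OX

variable {X : Scheme.{u}}

/-- The residue point of `x`. -/
noncomputable abbrev pt (x : X) : (Spec (X.residueField x) : Scheme.{u}) :=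
  IsLocalRing.closedPoint (X.residueField x)

/-- Near a point, a quotient of a free module receives an epimorphism from a free module of the fibre rank. -/
theorem exists_open_epi {n : ℕ} {Q : X.Modules} (π : FlatMod.freeMod X n ⟶ Q) [Epi π]
    {T₀ : Scheme.{u}} (g₀ : T₀ ⟶ X) (t₀ : T₀) (hT₀ : IsField (T₀.presheaf.stalk t₀))
    (hφ : Function.Surjective (g₀.stalkMap t₀).hom) :
    ∃ (W : Scheme.{u}) (j : W ⟶ X) (_ : IsOpenImmersion j)
      (s : FlatMod.freeMod X (fibDim g₀ t₀ Q) ⟶ Q),
      g₀ t₀ ∈ Set.range j ∧ Epi ((Scheme.Modules.restrictFunctor j).map s) := by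
  let := hT₀.toField
  let S := T₀.presheaf.stalk t₀
  have := isLeftAdjoint_fib g₀ t₀
  obtain ⟨o, ho⟩ := exists_fib_one g₀ t₀
  let v : Fin n → (fib g₀ t₀).obj Q := fun i =>
    (fib g₀ t₀).map (Sigma.ι (fun _ : Fin n => Coh.structureModule X) i ≫ π) o
  have hv : Submodule.span S (Set.range v) = ⊤ := by
    let V := Submodule.span S (Set.range v)
    have hq : (fib g₀ t₀).map π ≫ ModuleCat.ofHom V.mkQ = 0 := fib_free_ext g₀ t₀ n o ho _ _ fun i =>
      (Submodule.Quotient.mk_eq_zero V).2 (Submodule.subset_span ⟨i, by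
        simp only [v, Functor.map_comp]
        rfl⟩)
    refine eq_top_iff.2 fun m _ => ?_
    have : Epi ((fib g₀ t₀).map π) := inferInstance
    obtain ⟨m', rfl⟩ := (ModuleCat.epi_iff_surjective ((fib g₀ t₀).map π)).1 inferInstance m
    exact (Submodule.Quotient.mk_eq_zero V).1 (congrArg (fun g : _ ⟶ ModuleCat.of _ (_ ⧸ V) => g m') hq)
  obtain ⟨r, α, b, hb⟩ := exists_basis_sub ((fib g₀ t₀).obj Q) (Module.Flat.of_free) v hv
  have hr : fibDim g₀ t₀ Q = r := (Module.finrank_eq_card_basis b).trans (Fintype.card_fin r)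
  rw [hr]
  let s : FlatMod.freeMod X r ⟶ FlatMod.freeMod X n :=
    Sigma.desc fun i => Sigma.ι (fun _ : Fin n => Coh.structureModule X) (α i)
  let c := cokernel.π (s ≫ π)
  have hc0 : (fib g₀ t₀).map c = 0 := by
    refine ModuleCat.hom_ext (b.ext fun i => ?_)
    have h1 : b i = (fib g₀ t₀).map (s ≫ π) ((fib g₀ t₀).map (Sigma.ι (fun _ : Fin r => Coh.structureModule X) i) o) := by
      rw [hb i]
      change (fib g₀ t₀).map (Sigma.ι (fun _ : Fin n => Coh.structureModule X) (α i) ≫ π) o = _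
      rw [← Sigma.ι_desc (fun i => Sigma.ι (fun _ : Fin n => Coh.structureModule X) (α i)) i, Category.assoc,
        Functor.map_comp]
      rfl
    rw [h1]
    change ((fib g₀ t₀).map (s ≫ π) ≫ (fib g₀ t₀).map c) _ = 0
    rw [← Functor.map_comp, cokernel.condition, Functor.map_zero]
    rfl
  have hz : IsZero ((stalk (g₀ t₀)).obj (cokernel (s ≫ π))) := by
    have : Module.Finite (X.presheaf.stalk (g₀ t₀)) ((stalk (g₀ t₀)).obj (cokernel (s ≫ π))) := by
      obtain ⟨o', ho'⟩ := exists_stalk_one (g₀ t₀)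
      have := span_stalk_epi (π ≫ c) (g₀ t₀) o' ho'
      exact ⟨⟨(Set.finite_range fun i => (stalk (g₀ t₀)).map
        (Sigma.ι (fun _ : Fin n => Coh.structureModule X) i ≫ π ≫ c) o').toFinset, by
          rw [Set.Finite.coe_toFinset]; exact this⟩⟩
    have hz' : IsZero ((fib g₀ t₀).obj (cokernel (s ≫ π))) := IsZero.of_epi_eq_zero _ hc0
    have := ModFibre.subsingleton_of_extendScalars hT₀ _ hφ _
      (hz'.of_iso ((pullStalkIso g₀ t₀).app (cokernel (s ≫ π))).symm)
    exact ModuleCat.isZero_of_subsingleton _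
  obtain ⟨U, j, hj, ⟨z, hz₀⟩, hU⟩ := exists_restrict_hom_eq_zero (isFinLocFree_freeMod X n) (π ≫ c) (g₀ t₀)
    (hz.eq_of_tgt _ _)
  refine ⟨U, j, hj, s ≫ π, ⟨z, hz₀⟩, ?_⟩
  let R := Scheme.Modules.restrictFunctor j
  have hcz : R.map c = 0 := by
    rw [← cancel_epi (R.map π), comp_zero, ← Functor.map_comp]
    exact hU
  refine Abelian.epi_of_cokernel_π_eq_zero _ ?_
  rw [← PreservesCokernel.π_iso_hom R (s ≫ π), hcz, zero_comp]

theorem hom_eq_zero_of_sections {K L : X.Modules} (ρ : K ⟶ L)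
    (h : ∀ (V : X.Opens) (a : (DCoh.toP.obj K).obj (op V)), (DCoh.toP.map ρ).app (op V) a = 0) : ρ = 0 :=
  (Scheme.Modules.toPresheafOfModules X).map_injective
    (PresheafOfModules.hom_ext fun U => ModuleCat.hom_ext
      (LinearMap.ext fun a => (h U.unop a).trans rfl))

theorem germ_structureModule {v : X} {U : X.Opens} (hU : v ∈ U) (r : Γ(X, U)) :
    germ (DCoh.toP.obj (Coh.structureModule X)) U hU r =
      X.presheaf.germ U v hU r • germ (DCoh.toP.obj (Coh.structureModule X)) U hU (1 : Γ(X, U)) := by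
  refine Eq.trans ?_ (germ_smul' (DCoh.toP.obj (Coh.structureModule X)) U hU r (1 : Γ(X, U)))
  congr 1
  exact (mul_one r).symm

theorem germ_one_eq {v : X} {U W : X.Opens} (hU : v ∈ U) (hW : v ∈ W) :
    germ (DCoh.toP.obj (Coh.structureModule X)) U hU (1 : Γ(X, U)) =
      germ (DCoh.toP.obj (Coh.structureModule X)) W hW (1 : Γ(X, W)) := by
  have key : ∀ (U : X.Opens) (hU : v ∈ U), germ (DCoh.toP.obj (Coh.structureModule X)) U hU (1 : Γ(X, U)) =
      germ (DCoh.toP.obj (Coh.structureModule X)) ⊤ trivial (1 : Γ(X, ⊤)) := fun U hU => by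
    refine Eq.trans ?_ (germ_map (DCoh.toP.obj (Coh.structureModule X)) (homOfLE le_top : U ⟶ ⊤) hU
      (1 : Γ(X, ⊤)))
    congr 1
    exact (map_one (X.presheaf.map (homOfLE le_top : U ⟶ ⊤).op).hom).symm
  rw [key U hU, key W hW]

/-- Over a reduced scheme a map to the structure module with zero fibres is zero. -/
theorem eq_zero_of_fib_eq_zero [IsReduced X] {K : X.Modules} (ρ : K ⟶ Coh.structureModule X)
    (h : ∀ v : X, ∃ (T : Scheme.{u}) (g : T ⟶ X) (t : T),
      IsField (T.presheaf.stalk t) ∧ g t = v ∧ (fib g t).map ρ = 0) : ρ = 0 := by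
  refine hom_eq_zero_of_sections ρ fun V a => ?_
  let s : Γ(X, V) := (DCoh.toP.map ρ).app (op V) a
  change s = 0
  rw [← AlgebraicGeometry.basicOpen_eq_bot_iff]
  refine TopologicalSpace.Opens.ext (Set.eq_empty_of_forall_notMem fun v hv => ?_)
  have hvV : v ∈ V := X.basicOpen_le s hv
  have hunit : IsUnit (X.presheaf.germ V v hvV s) := (Scheme.mem_basicOpen' X s ⟨v, hvV⟩).1 hv
  obtain ⟨T, g, t, hK, hgt, h0'⟩ := h v
  have key : ∀ v', v' = v → Function.Surjective ((stalk v').map ρ) := by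
    rintro v' rfl e
    obtain ⟨W, hW, m, rfl⟩ := germ_exists (DCoh.toP.obj (Coh.structureModule X)) e
    obtain ⟨u, hu⟩ := hunit
    refine ⟨(X.presheaf.germ W v' hW m * u⁻¹.1) • germ (DCoh.toP.obj K) V hvV a, ?_⟩
    refine (((stalk v').map ρ).hom.map_smul _ _).trans ?_
    have h1 : ((stalk v').map ρ).hom (germ (DCoh.toP.obj K) V hvV a) =
        germ (DCoh.toP.obj (Coh.structureModule X)) V hvV s := stalkPre_map_germ _ V hvV a
    refine (congrArg (fun z => (X.presheaf.germ W v' hW m * u⁻¹.1) • z) h1).trans ?_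
    rw [germ_structureModule hvV s, germ_structureModule hW m, germ_one_eq hvV hW]
    refine (mul_smul (X.presheaf.germ W v' hW m * u⁻¹.1) (X.presheaf.germ V v' hvV s) _).symm.trans ?_
    congr 1
    rw [← hu, mul_assoc, Units.inv_mul, mul_one]
  have hs := key (g t) hgt
  have h0 : (ModuleCat.extendScalars (g.stalkMap t).hom).map ((stalk (g t)).map ρ) = 0 := by
    refine (NatIso.naturality_1 (pullStalkIso g t) ρ).symm.trans ?_
    change _ ≫ (fib g t).map ρ ≫ _ = 0
    rw [h0', zero_comp, comp_zero]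
  have : Epi ((ModuleCat.extendScalars (g.stalkMap t).hom).map ((stalk (g t)).map ρ)) := by
    have : Epi ((stalk (g t)).map ρ) := (ModuleCat.epi_iff_surjective _).2 hs
    infer_instance
  have hz : IsZero ((fib g t).obj (Coh.structureModule X)) :=
    (IsZero.of_epi_eq_zero _ h0).of_iso ((pullStalkIso g t).app _)
  let := hK.toField
  have h1 := fibDim_free g t 1 hK
  have : IsZero ((fib g t).obj (FlatMod.freeMod X 1)) :=
    hz.of_iso ((fib g t).mapIso (coproductUniqueIso fun _ : Fin 1 => Coh.structureModule X))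
  rw [fibDim, ModFibre.finrank_of_isZero this] at h1
  exact Nat.zero_ne_one h1

/-- Over a reduced scheme, a map out of a free module which is injective on all fibres is a monomorphism. -/
theorem mono_of_fib_mono [IsReduced X] {r : ℕ} {Q : X.Modules} (q : FlatMod.freeMod X r ⟶ Q)
    (h : ∀ v : X, ∃ (T : Scheme.{u}) (g : T ⟶ X) (t : T),
      IsField (T.presheaf.stalk t) ∧ g t = v ∧ Mono ((fib g t).map q)) : Mono q := by
  refine Abelian.mono_of_kernel_ι_eq_zero _ ?_
  let σ : Fin r → X.Modules := fun _ => Coh.structureModule X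
  have hρ : ∀ i, kernel.ι q ≫ Sigma.π σ i = 0 := fun i => eq_zero_of_fib_eq_zero _ fun v => by
    obtain ⟨T, g, t, hK, hgt, hm⟩ := h v
    refine ⟨T, g, t, hK, hgt, ?_⟩
    have hfib : (fib g t).map (kernel.ι q) = 0 := by
      rw [← cancel_mono ((fib g t).map q), ← Functor.map_comp, kernel.condition, Functor.map_zero, zero_comp]
    rw [Functor.map_comp, hfib, zero_comp]
  have hid : 𝟙 (∐ σ) = ∑ i, Sigma.π σ i ≫ Sigma.ι σ i := by
    refine Sigma.hom_ext _ _ fun i => ?_
    rw [Category.comp_id, Preadditive.comp_sum, Finset.sum_eq_single i]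
    · rw [Sigma.ι_π_eq_id_assoc]
    · intro k _ hk
      rw [Sigma.ι_π_of_ne_assoc _ (Ne.symm hk), zero_comp]
    · intro hi; exact absurd (Finset.mem_univ i) hi
  rw [← Category.comp_id (kernel.ι q)]
  change kernel.ι q ≫ 𝟙 (∐ σ) = 0
  rw [hid, Preadditive.comp_sum]
  exact Finset.sum_eq_zero fun i _ => by rw [← Category.assoc, hρ i, zero_comp]

/-- Constant fibre rank on a reduced scheme gives flatness near a point. -/
theorem exists_flat_of_fibDim_const [IsReduced X] {n : ℕ} {Q : X.Modules} (π : FlatMod.freeMod X n ⟶ Q) [Epi π]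
    {T₀ : Scheme.{u}} (g₀ : T₀ ⟶ X) (t₀ : T₀) (hT₀ : IsField (T₀.presheaf.stalk t₀))
    (hφ : Function.Surjective (g₀.stalkMap t₀).hom) (O : X.Opens) (hO : g₀ t₀ ∈ O)
    (h : ∀ v ∈ O, ∃ (T : Scheme.{u}) (g : T ⟶ X) (t : T), Subsingleton T ∧ IsField (T.presheaf.stalk t) ∧
      g t = v ∧ fibDim g t Q = fibDim g₀ t₀ Q) :
    ∃ W : X.Opens, g₀ t₀ ∈ W ∧ W ≤ O ∧ FlatMod.IsFlat ((Scheme.Modules.restrictFunctor W.ι).obj Q) := by
  obtain ⟨U, jU, hj, s, hx, hs⟩ := exists_open_epi π g₀ t₀ hT₀ hφ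
  generalize fibDim g₀ t₀ Q = r at s hs h
  let W : X.Opens := O ⊓ jU.opensRange
  refine ⟨W, ⟨hO, hx⟩, inf_le_left, ?_⟩
  let j := W.ι
  have : IsReduced (W : Scheme.{u}) := isReduced_of_isOpenImmersion j
  let l : (W : Scheme.{u}) ⟶ U := IsOpenImmersion.lift jU j (by
    rw [Scheme.Opens.range_ι]; exact fun _ hz => hz.2)
  have hl : l ≫ jU = j := IsOpenImmersion.lift_fac _ _ _
  have : IsOpenImmersion (l ≫ jU) := hl ▸ inferInstance
  have : IsOpenImmersion l := IsOpenImmersion.of_comp l jU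
  have hs' : Epi ((Scheme.Modules.restrictFunctor j).map s) :=
    ((MorphismProperty.epimorphisms _).arrow_mk_iso_iff
      (Arrow.isoMk (((Scheme.Modules.restrictFunctorComp l jU).symm ≪≫ Scheme.Modules.restrictFunctorCongr hl).app _)
        (((Scheme.Modules.restrictFunctorComp l jU).symm ≪≫ Scheme.Modules.restrictFunctorCongr hl).app _)
        (((Scheme.Modules.restrictFunctorComp l jU).symm ≪≫
          Scheme.Modules.restrictFunctorCongr hl).hom.naturality s).symm)).1
      (inferInstanceAs (Epi ((Scheme.Modules.restrictFunctor l).map ((Scheme.Modules.restrictFunctor jU).map s))))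
  let q : FlatMod.freeMod (W : Scheme.{u}) r ⟶ (Scheme.Modules.restrictFunctor j).obj Q :=
    (DCoh.restrictFreeModIso j r).inv ≫ (Scheme.Modules.restrictFunctor j).map s
  have : Epi q := epi_comp _ _
  have : Mono q := mono_of_fib_mono q fun w => by
    obtain ⟨T, g', t, hsub, hK, hgt, hdimQ⟩ := h (j w) w.2.1
    obtain ⟨g, hg⟩ := exists_lift_point g' t j ⟨w, hgt.symm⟩
    let := hK.toField
    refine ⟨T, g, t, hK, j.isOpenEmbedding.injective ?_, ?_⟩
    · rw [← Scheme.Hom.comp_apply, hg, hgt]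
    have hdim : fibDim g t ((Scheme.Modules.restrictFunctor j).obj Q) = r :=
      (ModFibre.finrank_eq_of_iso ((fibResIso j g _ hg t).app Q)).trans hdimQ
    have := isLeftAdjoint_fib g t
    have := finite_fib_free g t (Iso.refl (FlatMod.freeMod (W : Scheme.{u}) r))
    have hsurj := (ModuleCat.epi_iff_surjective ((fib g t).map q)).1 inferInstance
    have := Module.Finite.of_surjective ((fib g t).map q).hom hsurj
    rw [ModuleCat.mono_iff_injective]
    exact (LinearMap.injective_iff_surjective_of_finrank_eq_finrank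
      ((fibDim_free g t r hK).trans hdim.symm)).2 hsurj
  have := isIso_of_mono_of_epi q
  exact flat_of_iso (asIso q) (flat_freeMod (W : Scheme.{u}) r)

end GrothLib.KSix19.BettiExact
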