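import Groth.Agent.Lib.KSix19.BettiExact.Converse
import Groth.Agent.Lib.QCohCat20.Category
import Mathlib.Algebra.Homology.ShortComplex.ExactFunctor

/-! # Right exactness in degree `p` and left exactness in degree `p + 1` -/

set_option autoImplicit false
set_option maxHeartbeats 1600000
set_option backward.isDefEq.respectTransparency false
universe u

open CategoryTheory CategoryTheory.Limits AlgebraicGeometry HomologicalComplex

attribute [local instance] HasDerivedCategory.standard

namespace GrothLib.KSix19.BettiExact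

open GrothLib.OX

variable {X : Scheme.{u}}

theorem qcoh_ι_exact : PreservesFiniteLimits (QCohCat.isQCoh X).ι ∧ PreservesFiniteColimits (QCohCat.isQCoh X).ι := by
  haveI : PreservesFiniteLimits (QCohCat.isQCoh X).ι := GrothLib.QCohCat20.preservesFiniteLimits_ι
  haveI : ∀ {A B : QCohCat.QCoh X} (f : A ⟶ B), PreservesColimit (parallelPair f 0) (QCohCat.isQCoh X).ι :=
    fun {A B} f => (QCohCat.isQCoh X).preservesCokernels_ι f
  exact ⟨inferInstance, Functor.preservesFiniteColimits_of_preservesCokernels _⟩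

/-- `H^p(P ⊗ -)` is right exact on quasi-coherent modules iff `H^{p+1}(P ⊗ -)` is left exact there. -/
theorem cohTensor_colimits_iff_limits_succ {P : CochainComplex X.Modules ℤ} (hP : ∀ k, FlatMod.IsFlat (P.X k))
    (p : ℤ) :
    PreservesFiniteColimits ((QCohCat.isQCoh X).ι ⋙ cohTensor P p) ↔
      PreservesFiniteLimits ((QCohCat.isQCoh X).ι ⋙ cohTensor P (p + 1)) := by
  obtain ⟨_, _⟩ := qcoh_ι_exact (X := X)
  let ι := (QCohCat.isQCoh X).ι
  have hι : ∀ S : ShortComplex (QCohCat.QCoh X), S.ShortExact → (S.map ι).ShortExact := fun S hS =>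
    hS.map_of_exact ι
  have hij : (ComplexShape.up ℤ).Rel p (p + 1) := rfl
  have hmid : ∀ (i : ℤ) (S : ShortComplex (QCohCat.QCoh X)), S.ShortExact → (S.map (ι ⋙ cohTensor P i)).Exact :=
    fun i S hS => (shortExact_cxTensor hP _ (hι S hS)).homology_exact₂ i
  rw [Functor.preservesFiniteColimits_iff_forall_exact_map_and_epi,
    Functor.preservesFiniteLimits_iff_forall_exact_map_and_mono]
  constructor
  · intro h S hS
    refine ⟨hmid (p + 1) S hS, ?_⟩
    have hT := shortExact_cxTensor hP _ (hι S hS)
    have : Epi (homologyMap ((S.map ι).map (cxTensor P)).g p) := (h S hS).2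
    exact (hT.homology_exact₁ p (p + 1) hij).mono_g (zero_of_epi_comp _ (hT.comp_δ p (p + 1) hij))
  · intro h S hS
    refine ⟨hmid p S hS, ?_⟩
    have hT := shortExact_cxTensor hP _ (hι S hS)
    have : Mono (homologyMap ((S.map ι).map (cxTensor P)).f (p + 1)) := (h S hS).2
    exact (hT.homology_exact₃ p (p + 1) hij).epi_f (zero_of_comp_mono _ (hT.δ_comp p (p + 1) hij))

/-- `H^p(- ⊗^L F)` is right exact on quasi-coherent modules iff `H^{p+1}(- ⊗^L F)` is left exact there. -/
theorem colimits_iff_limits_succ (F : CochainComplex X.Modules ℤ) [DCoh.HasLTensorCx F] (p : ℤ) :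
    PreservesFiniteColimits ((QCohCat.isQCoh X).ι ⋙ DerivedCategory.singleFunctor X.Modules 0 ⋙ DCoh.LTensorCx F ⋙
        DerivedCategory.homologyFunctor X.Modules p) ↔
      PreservesFiniteLimits ((QCohCat.isQCoh X).ι ⋙ DerivedCategory.singleFunctor X.Modules 0 ⋙ DCoh.LTensorCx F ⋙
        DerivedCategory.homologyFunctor X.Modules (p + 1)) := by
  obtain ⟨F', q, hF', hflat, hq, -⟩ := exists_kflat_resolution F
  obtain ⟨e₀⟩ := nonempty_functor_iso F hF' q p
  obtain ⟨e₁⟩ := nonempty_functor_iso F hF' q (p + 1)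
  refine Iff.trans ?_ (Iff.trans (cohTensor_colimits_iff_limits_succ hflat p) ?_)
  · exact ⟨fun _ => preservesFiniteColimits_of_natIso (Functor.isoWhiskerLeft _ e₀),
      fun _ => preservesFiniteColimits_of_natIso (Functor.isoWhiskerLeft _ e₀).symm⟩
  · exact ⟨fun _ => preservesFiniteLimits_of_natIso (Functor.isoWhiskerLeft _ e₁).symm,
      fun _ => preservesFiniteLimits_of_natIso (Functor.isoWhiskerLeft _ e₁)⟩

end GrothLib.KSix19.BettiExact
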